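import Cfsg.Agent.H40.Ward.TorusPair

/-!
# Ward: a lower bound for the group order

The pairs of involutions with product in a conjugate of `T \ W` are counted inside the pairs of
conjugates of `t`: `2 (|K| - 1) |C(t)| ^ 2 ≤ 3 |G|`.
-/

set_option autoImplicit false
set_option linter.style.haveILetI false

namespace Cfsg.Agent.H22.Ward

open Subgroup Cfsg.Agent
open Cfsg.Agent.H40.Ward (TorusPair)

universe u

variable {G : Type u} [Group G]

theorem inverts_T (P : TorusPair G) {a : G} (ha : a ∈ P.T) : P.u * a * P.u⁻¹ = a⁻¹ := by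
  obtain ⟨x, hx, k, hk, rfl⟩ := P.exists_eq ha
  rw [show P.u * (x * k) * P.u⁻¹ = (P.u * x * P.u⁻¹) * (P.u * k * P.u⁻¹) by group,
    P.u_W x hx, P.u_K k hk, mul_inv_rev]
  have h := (P.comm x hx k⁻¹ (inv_mem hk)).eq
  rw [h, inv_eq_of_mul_eq_one_left (P.mul_self hx)]

theorem invol_coset (P : TorusPair G) {a : G} (ha : a ∈ P.T) : P.u * a * (P.u * a) = 1 := by
  have h := inverts_T P ha
  rw [inv_eq_of_mul_eq_one_left P.u_sq] at h
  rw [show P.u * a * (P.u * a) = P.u * a * P.u * a by group, h, inv_mul_cancel]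

/-- The centraliser of a point of `T \ W` is `T`. -/
theorem commute_iff_mem (P : TorusPair G) (hfpf : ∀ k ∈ P.K, P.w * k * P.w⁻¹ = k → k = 1)
    {x k : G} (hx : x ∈ P.W) (hk : k ∈ P.K) (hk1 : k ≠ 1) (z : G) :
    Commute z (x * k) ↔ z ∈ P.T := by
  refine ⟨fun hz => ?_, fun hz => P.comm_T hz (mul_mem (P.W_le hx) (P.K_le hk))⟩
  have h2 : Commute z (k ^ 2) := by
    have h := hz.pow_right 2
    rwa [(P.comm x hx k hk).mul_pow, pow_two x, P.mul_self hx, one_mul] at h
  obtain ⟨r, hr⟩ := P.odd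
  have hk2 : (k ^ 2) ^ (r + 1) = k := by
    have h1 : k ^ Nat.card ↥P.K = 1 :=
      orderOf_dvd_iff_pow_eq_one.1 (Subgroup.orderOf_dvd_natCard _ hk)
    rw [← pow_mul, show 2 * (r + 1) = 2 * r + 1 + 1 by ring, ← hr, pow_succ, h1, one_mul]
  have hzk : Commute z k := hk2 ▸ h2.pow_right (r + 1)
  exact P.cent k hk (fun e => hk1 (hfpf k hk e)) (mem_centralizer_singleton_iff.2 hzk.eq)

/-- Counting pairs of involutions. -/
theorem torus_lower [Finite G] (P : TorusPair G) (t : G)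
    (hfpf : ∀ k ∈ P.K, P.w * k * P.w⁻¹ = k → k = 1)
    (hconj : ∀ r : G, r * r = 1 → r ≠ 1 → IsConj t r) :
    2 * (Nat.card ↥P.K - 1) * Nat.card (centralizer ({t} : Set G)) ^ 2 ≤ 3 * Nat.card G := by
  classical
  haveI := Fintype.ofFinite G
  haveI := P.klein
  let C : Finset G := Finset.univ.filter fun r => IsConj t r
  have hC : C.card * Nat.card (centralizer ({t} : Set G)) = Nat.card G := by
    rw [← Subgroup.index_mul_card (centralizer ({t} : Set G))]
    congr 1
    have h := MulAction.index_stabilizer (G := ConjAct G) (x := t)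
    rw [ConjAct.stabilizer_eq_centralizer] at h
    refine Eq.trans ?_ h.symm
    rw [← Set.ncard_coe_finset]
    refine congrArg Set.ncard (Set.ext fun g => ?_)
    rw [ConjAct.mem_orbit_conjAct, Finset.mem_coe, Finset.mem_filter_univ]
    exact isConj_comm
  let A := G × (↥P.W × {k : ↥P.K // k ≠ 1}) × ↥P.T
  let f : A → G × G := fun z =>
    (z.1 * (P.u * z.2.2) * z.1⁻¹, z.1 * (P.u * z.2.2 * ((z.2.1.1 : G) * z.2.1.2.1)) * z.1⁻¹)
  have hmem : ∀ z : A, f z ∈ C ×ˢ C := by
    rintro ⟨g, ⟨x, ⟨k, hk⟩⟩, a⟩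
    have hu : ∀ b ∈ P.T, IsConj t (g * (P.u * b) * g⁻¹) := by
      intro b hb
      refine (hconj _ (invol_coset P hb) fun e => hk ?_).trans (isConj_iff.2 ⟨g, rfl⟩)
      have hu : P.u ∈ P.T := by
        rw [eq_inv_of_mul_eq_one_left e]; exact inv_mem hb
      have h1 : (k : G)⁻¹ = k := by
        rw [← P.u_K k k.2, (P.comm_T hu (P.K_le k.2)).eq, mul_inv_cancel_right]
      have h2 : (k : G) ^ 2 = 1 := by
        rw [pow_two]; nth_rewrite 1 [← h1]; exact inv_mul_cancel _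
      exact Subtype.ext (orderOf_eq_one_iff.1 (Nat.eq_one_of_dvd_coprimes
        (Nat.coprime_two_left.2 P.odd) (orderOf_dvd_of_pow_eq_one h2)
        (Subgroup.orderOf_dvd_natCard _ k.2)))
    rw [Finset.mem_product, Finset.mem_filter_univ, Finset.mem_filter_univ]
    refine ⟨hu _ a.2, ?_⟩
    have := hu ((a : G) * ((x : G) * k)) (mul_mem a.2 (mul_mem (P.W_le x.2) (P.K_le k.2)))
    rwa [← mul_assoc P.u] at this
  have hfib : ∀ b ∈ Finset.univ.image f, (Finset.univ.filter fun z => f z = b).card ≤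
      Nat.card ((Fin 3 × Fin 2) × ↥P.T) := by
    intro b hb
    obtain ⟨⟨g, ⟨x, ⟨k, hk⟩⟩, a⟩, -, rfl⟩ := Finset.mem_image.1 hb
    rw [Nat.card_eq_fintype_card, ← Finset.card_univ]
    refine le_trans ?_ (Finset.card_image_le (f := fun c => P.rep c.1 * (c.2 : G)))
    refine Finset.card_le_card_of_injOn (fun z => g⁻¹ * z.1) ?_ ?_
    · rintro ⟨g', ⟨x', ⟨k', hk'⟩⟩, a'⟩ hz
      rw [Finset.mem_coe, Finset.mem_filter_univ] at hz
      have hprod : ∀ (c : G) (d : ↥P.T) (e : G),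
          c * (P.u * d) * c⁻¹ * (c * (P.u * d * e) * c⁻¹) = c * e * c⁻¹ := fun c d e => by
        rw [show c * (P.u * d) * c⁻¹ * (c * (P.u * d * e) * c⁻¹) =
          c * (P.u * d * (P.u * d) * e) * c⁻¹ by group, invol_coset P d.2, one_mul]
      have hy : g * ((x : G) * k) * g⁻¹ = g' * ((x' : G) * k') * g'⁻¹ := by
        rw [← hprod g a, ← hprod g' a']
        exact (congrArg (fun p : G × G => p.1 * p.2) hz).symm
      have hy' : (x : G) * k = (g⁻¹ * g') * ((x' : G) * k') * (g⁻¹ * g')⁻¹ := by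
        rw [show (g⁻¹ * g') * ((x' : G) * k') * (g⁻¹ * g')⁻¹ =
          g⁻¹ * (g' * ((x' : G) * k') * g'⁻¹) * g by group, ← hy]
        group
      have hn : ∀ z, z ∈ P.W ⊔ P.K ↔ (g⁻¹ * g') * z * (g⁻¹ * g')⁻¹ ∈ P.W ⊔ P.K := by
        intro z
        show z ∈ P.T ↔ _ ∈ P.T
        rw [← commute_iff_mem P hfpf x'.2 k'.2 (fun e => hk' (Subtype.ext e)),
          ← commute_iff_mem P hfpf x.2 k.2 (fun e => hk (Subtype.ext e)), hy']
        exact (Commute.conj_iff _).symm
      obtain ⟨i, hi, j, hj, hmem⟩ := P.normaliser _ hn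
      refine Finset.mem_image.2 ⟨((⟨i, hi⟩, ⟨j, hj⟩), ⟨_, hmem⟩), Finset.mem_univ _, ?_⟩
      show P.w ^ i * P.u ^ j * ((P.w ^ i * P.u ^ j)⁻¹ * (g⁻¹ * g')) = g⁻¹ * g'
      group
    · rintro ⟨g', ⟨x', k'⟩, a'⟩ hz ⟨g'', ⟨x'', k''⟩, a''⟩ hz' he
      rw [Finset.mem_coe, Finset.mem_filter_univ] at hz hz'
      obtain rfl : g' = g'' := mul_left_cancel (a := g⁻¹) he
      have h1 := congrArg Prod.fst (hz.trans hz'.symm)
      have h2 := congrArg Prod.snd (hz.trans hz'.symm)
      obtain rfl : a' = a'' := Subtype.ext (mul_left_cancel (mul_left_cancel (mul_right_cancel h1)))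
      have h3 := P.mulHom_injective (a₁ := (x', k'.1)) (a₂ := (x'', k''.1))
        (mul_left_cancel (mul_left_cancel (mul_right_cancel h2)))
      rw [Prod.mk.injEq] at h3
      obtain rfl := h3.1
      obtain rfl : k' = k'' := Subtype.ext h3.2
      rfl
  have hle : Fintype.card A ≤ Nat.card ((Fin 3 × Fin 2) × ↥P.T) * (C.card * C.card) := by
    rw [← Finset.card_univ]
    refine le_trans (Finset.card_le_mul_card_image Finset.univ _ hfib) (Nat.mul_le_mul le_rfl ?_)
    rw [← Finset.card_product]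
    exact Finset.card_le_card fun b hb => by
      obtain ⟨z, -, rfl⟩ := Finset.mem_image.1 hb
      exact hmem z
  have hT : Nat.card ↥P.T = 4 * Nat.card ↥P.K := by
    rw [← Nat.card_congr P.equiv.toEquiv, Nat.card_prod, IsKleinFour.card_four (G := ↥P.W)]
  have hK : Nat.card {k : ↥P.K // k ≠ 1} = Nat.card ↥P.K - 1 := by
    simp [Nat.card_eq_fintype_card, Fintype.card_subtype_compl]
  rw [← Nat.card_eq_fintype_card, Nat.card_prod, Nat.card_prod, Nat.card_prod, Nat.card_prod,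
    Nat.card_prod, hT, hK, IsKleinFour.card_four (G := ↥P.W), Nat.card_fin, Nat.card_fin] at hle
  set c := Nat.card (centralizer ({t} : Set G)) with hc
  set n := Nat.card ↥P.K
  have hn : 0 < n := Nat.card_pos
  have hG : 0 < Nat.card G := Nat.card_pos
  refine Nat.le_of_mul_le_mul_left ?_ (show 0 < 8 * n * Nat.card G by positivity)
  calc 8 * n * Nat.card G * (2 * (n - 1) * c ^ 2)
      = (Nat.card G * (4 * (n - 1) * (4 * n))) * c ^ 2 := by ring
    _ ≤ (3 * 2 * (4 * n) * (C.card * C.card)) * c ^ 2 := Nat.mul_le_mul hle le_rfl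
    _ = 24 * n * ((C.card * c) * (C.card * c)) := by ring
    _ = 8 * n * Nat.card G * (3 * Nat.card G) := by rw [hC]; ring

end Cfsg.Agent.H22.Ward
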