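import Cfsg.Agent.H22.Ward.GLower
import Cfsg.Agent.H29.Ward.Glue
import Cfsg.Agent.H56.CTwoAb.Small

/-!
# Ward: the lower bound for the group order in a frame, in the variables of the pair case
-/

set_option autoImplicit false

namespace Cfsg.Agent.H22.Ward

open Subgroup Cfsg.Agent
open Cfsg.Agent.H29.Ward (Hyp Frame)

universe u

variable {G : Type u} [Group G] [Finite G] {F : Type} [Field F] [Fintype F] {t v : G}

omit [Finite G] in
theorem card_torus_three (f : Frame G F t v) (h3 : Fintype.card F % 8 = 3) :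
    4 * (Nat.card ↥f.P.K : ℤ) = (Fintype.card F : ℤ) + 1 := by
  have h := f.card_three h3
  rw [Nat.card_congr f.ι.toEquiv] at h
  exact_mod_cast h

omit [Finite G] in
theorem card_torus_five (f : Frame G F t v) (h5 : Fintype.card F % 8 = 5) :
    (Fintype.card F : ℤ) = 4 * (Nat.card ↥f.P.K : ℤ) + 1 := by
  have h := f.card_five h5
  rw [Nat.card_congr f.ι.toEquiv] at h
  exact_mod_cast h.symm

/-- `2 (m - 1) c² ≤ 3 |G|` with `m = |K|` and `c = q (q² - 1) = |C(t)|`. -/
theorem frame_lower (h : Hyp G F t) (f : Frame G F t v)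
    (hfpf : ∀ k ∈ f.P.K, f.P.w * k * f.P.w⁻¹ = k → k = 1) :
    2 * ((Nat.card ↥f.P.K : ℤ) - 1) *
        ((Fintype.card F : ℤ) * ((Fintype.card F : ℤ) ^ 2 - 1)) ^ 2 ≤ 3 * (Nat.card G : ℤ) := by
  have h0 := torus_lower f.P t hfpf fun r hr hr1 =>
    h.isConj_invol (orderOf_eq_prime (by rw [pow_two, hr]) hr1)
  rw [h.card_centralizer,
    H56.CTwoAb.card_psl_two_odd (F := F) (by have := h.mod_eight; omega)] at h0
  have hq : 1 ≤ Fintype.card F ^ 2 := Nat.one_le_pow _ _ Fintype.card_pos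
  have hK : 1 ≤ Nat.card ↥f.P.K := Nat.card_pos
  zify [hq, hK] at h0
  exact h0

end Cfsg.Agent.H22.Ward
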