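import Cfsg.Agent.H22.Ward.PairBounds

/-!
# Ward: the pair case for large fields
-/

set_option autoImplicit false

namespace Cfsg.Agent.H22.Ward

/-- `q ≤ 3 i + 4 e`, in the form used below. -/
theorem qm_le {q m g e H T : ℤ} (hq : q = 4 * m - 1) (hm : 0 < m) (hg : 0 < g) (he : 0 < e)
    (h3 : q ∣ 3 * g + e) (h4 : m ∣ 4 * g + e) (heH : e * H = g * T) (hH : 0 ≤ H) :
    q * m * H ≤ g * (12 * H + (q + 4) * T) := by
  obtain ⟨j, hj⟩ := h3
  obtain ⟨i, hi⟩ := h4
  have hi0 : 0 < i := by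
    by_contra h
    nlinarith [mul_nonpos_of_nonneg_of_nonpos hm.le (not_lt.1 h)]
  have hkey : q * (16 * j - 3 * i) = 3 * i + 4 * e := by
    subst hq
    linear_combination -16 * hj + 12 * hi
  have hge : q ≤ 3 * i + 4 * e := by
    rw [← hkey]
    have hq0 : 0 < q := by linarith
    have : 0 < 16 * j - 3 * i := by
      by_contra h
      nlinarith [mul_nonpos_of_nonneg_of_nonpos hq0.le (not_lt.1 h)]
    exact le_mul_of_one_le_right hq0.le this
  have h5 : q * m ≤ 12 * g + (q + 4) * e := by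
    have := mul_le_mul_of_nonneg_left hge hm.le
    subst hq
    linear_combination this - 3 * hi
  calc q * m * H ≤ (12 * g + (q + 4) * e) * H := mul_le_mul_of_nonneg_right h5 hH
    _ = g * (12 * H + (q + 4) * T) := by linear_combination (q + 4) * heH

/-- The large case. -/
theorem large_case {θ m q b η H C g e : ℤ} (hθ : 1093 ≤ θ) (hθm : θ = 2 * m - 1)
    (hq : q = 4 * m - 1) (hb : 65 * θ ^ 2 ≤ 100 * b) (hη : η = b - 4 * θ * (θ - 1))
    (hη2 : 2 * θ - 3 ≤ η ∨ η ≤ -2 * θ - 7) (hH : 0 < H) (hC : C = θ * b - H)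
    (hlo : -(16 * θ ^ 2) ≤ (η + θ) * H - θ * b * η)
    (hhi : (η + θ) * H - θ * b * η ≤ 4 * θ ^ 2)
    (hg : 0 < g) (he : 0 < e) (heH : e * H = g * (4 * θ * (θ - 1)))
    (hsize : g ^ 2 * (H + 1) ≤ |C| * (θ * b)) (h4 : m ∣ 4 * g + e)
    (hpow : (3 * (θ * b) < 3 * (g * (H + 1)) → 3 ∣ 3 * g + e) ∧
      (q * (θ * b) < 3 * (g * (H + 1)) → q ∣ 3 * g + e)) : False := by
  have hb0 : 0 < b := by nlinarith
  have hθb : 0 < θ * b := by positivity
  have hT0 : 0 < 4 * θ * (θ - 1) := by nlinarith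
  have hT4 : 4 * θ * (θ - 1) ≤ 4 * θ ^ 2 := by nlinarith
  have hbθ : 700 * θ ≤ b := by nlinarith
  -- transfer a comparison to `g (H+1)`
  have htrans : ∀ X Y : ℤ, X * (4 * θ * (θ - 1)) < Y * (e * H * (H + 1)) → X < Y * (g * (H + 1)) := by
    intro X Y hXY
    refine lt_of_mul_lt_mul_right ?_ hT0.le
    calc X * (4 * θ * (θ - 1)) < Y * (e * H * (H + 1)) := hXY
      _ = Y * (g * (H + 1)) * (4 * θ * (θ - 1)) := by rw [heH]; ring
  have he2 : e ^ 2 * H ^ 2 * (H + 1) ≤ (4 * θ * (θ - 1)) ^ 2 * (|C| * (θ * b)) := by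
    calc e ^ 2 * H ^ 2 * (H + 1) = (e * H) ^ 2 * (H + 1) := by ring
      _ = (4 * θ * (θ - 1)) ^ 2 * (g ^ 2 * (H + 1)) := by rw [heH]; ring
      _ ≤ _ := mul_le_mul_of_nonneg_left hsize (sq_nonneg _)
  rcases hη2 with hp | hn
  · -- `η > 0`
    have hH6 : 6 * (θ * b) ≤ 10 * H := by
      refine le_of_mul_le_mul_left ?_ (show 0 < η + θ by linarith)
      nlinarith [mul_nonneg hθb.le (show 0 ≤ 4 * η - 6 * θ - 1 by linarith)]
    have hCeq : C * (η + θ) ≤ θ ^ 2 * b + 16 * θ ^ 2 := by rw [hC]; nlinarith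
    have hC0 : 0 ≤ C := by
      by_contra h
      rw [not_le] at h
      nlinarith [mul_pos (show 0 < -C by linarith) (show 0 < η + θ by linarith)]
    rw [abs_of_nonneg hC0] at hsize he2
    have hC6 : 5 * C ≤ 3 * H := by
      refine le_of_mul_le_mul_left ?_ (show 0 < η + θ by linarith)
      nlinarith [mul_nonneg hθb.le (show 0 ≤ 3 * η - 5 * θ - 1 by linarith)]
    have hsq : 36 * (θ * b) ^ 2 ≤ 100 * H ^ 2 := by nlinarith
    have h3g : 3 ∣ 3 * g + e := by
      refine hpow.1 (htrans _ _ ?_)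
      have h1 : θ * b * (4 * θ * (θ - 1)) < H ^ 2 := by
        nlinarith [mul_le_mul_of_nonneg_left hT4 hθb.le, mul_nonneg hθb.le (show 0 ≤ θ * b - 700 * θ ^ 2 by nlinarith)]
      have h2 : H ^ 2 ≤ e * H * (H + 1) := by nlinarith [mul_le_mul_of_nonneg_right he hH.le]
      linarith
    have he3 : 3 ≤ e := by omega
    have hH2 : 9 * H ^ 3 * (η + θ) ≤ 16 * θ ^ 5 * b * (θ ^ 2 * b + 16 * θ ^ 2) := by
      have h1 : 9 * H ^ 3 ≤ (4 * θ * (θ - 1)) ^ 2 * (C * (θ * b)) := by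
        refine le_trans ?_ he2
        nlinarith [mul_le_mul_of_nonneg_right (show 9 ≤ e ^ 2 by nlinarith) (show 0 ≤ H ^ 2 * (H + 1) by positivity)]
      calc 9 * H ^ 3 * (η + θ) ≤ (4 * θ * (θ - 1)) ^ 2 * (C * (θ * b)) * (η + θ) :=
            mul_le_mul_of_nonneg_right h1 (by linarith)
        _ = (4 * θ * (θ - 1)) ^ 2 * (θ * b) * (C * (η + θ)) := by ring
        _ ≤ (4 * θ ^ 2) ^ 2 * (θ * b) * (C * (η + θ)) := by
            refine mul_le_mul_of_nonneg_right (mul_le_mul_of_nonneg_right ?_ hθb.le)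
              (mul_nonneg hC0 (by linarith))
            exact pow_le_pow_left₀ hT0.le hT4 2
        _ ≤ (4 * θ ^ 2) ^ 2 * (θ * b) * (θ ^ 2 * b + 16 * θ ^ 2) :=
            mul_le_mul_of_nonneg_left hCeq (by positivity)
        _ = _ := by ring
    have hbup : 10 * b ≤ 57 * θ ^ 2 := by
      by_contra hlt
      rw [not_le] at hlt
      have hηb : 17 * θ ^ 2 ≤ 10 * (η + θ) := by rw [hη]; nlinarith
      have h1 : 216 * (θ * b) ^ 3 ≤ 1000 * H ^ 3 := by
        have := pow_le_pow_left₀ (by positivity) hH6 3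
        linear_combination this
      have h2 : 9 * (216 * (θ * b) ^ 3) * (η + θ) ≤ 1000 * (16 * θ ^ 5 * b * (θ ^ 2 * b + 16 * θ ^ 2)) := by
        nlinarith [mul_le_mul_of_nonneg_right h1 (show 0 ≤ η + θ by linarith)]
      have h3 : 1944 * b ^ 2 * (η + θ) ≤ 16000 * θ ^ 4 * (b + 16) := by
        refine le_of_mul_le_mul_left ?_ (show 0 < θ ^ 3 * b by positivity)
        linear_combination h2
      have h4' : 1944 * 17 * b ^ 2 ≤ 160000 * θ ^ 2 * (b + 16) := by
        refine le_of_mul_le_mul_left ?_ (show 0 < θ ^ 2 by positivity)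
        nlinarith [mul_le_mul_of_nonneg_left hηb (show 0 ≤ 1944 * b ^ 2 by positivity)]
      nlinarith [mul_lt_mul_of_pos_right hlt hb0, mul_nonneg (sq_nonneg θ) (show 0 ≤ b - 700 * θ by linarith)]
    have hbig : q ∣ 3 * g + e := by
      refine hpow.2 (htrans _ _ ?_)
      have h1 : q * (θ * b) * (4 * θ * (θ - 1)) ≤ (2 * θ + 1) * (θ * b) * (4 * θ ^ 2) := by
        rw [show q = 2 * θ + 1 by linarith]
        exact mul_le_mul_of_nonneg_left hT4 (by positivity)
      have h2 : 9 * H ^ 2 < 3 * (e * H * (H + 1)) := by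
        nlinarith [mul_le_mul_of_nonneg_right he3 (show 0 ≤ H * (H + 1) by positivity)]
      have h3 : (2 * θ + 1) * (θ * b) * (4 * θ ^ 2) ≤ 9 * H ^ 2 := by
        have hb4 : 399 * θ ^ 2 ≤ 100 * b := by rw [hη] at hp; nlinarith
        nlinarith [mul_le_mul_of_nonneg_left hb4 (show 0 ≤ θ ^ 2 * b by positivity)]
      linarith
    have hqm := qm_le hq (by linarith) hg he hbig h4 heH hH.le
    have hkey : 5 * (q * m) ≤ 78 * g := by
      refine le_of_mul_le_mul_right ?_ hH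
      have hb4 : 399 * θ ^ 2 ≤ 100 * b := by rw [hη] at hp; nlinarith
      have h1 : (q + 4) * (4 * θ * (θ - 1)) * 5 ≤ 18 * H := by
        rw [show q = 2 * θ + 1 by linarith]
        nlinarith [mul_le_mul_of_nonneg_left hb4 (show 0 ≤ θ by linarith)]
      nlinarith [mul_le_mul_of_nonneg_left h1 hg.le]
    have hg2 : 5 * g ^ 2 ≤ 3 * (θ * b) := by
      refine le_of_mul_le_mul_right ?_ hH
      nlinarith [mul_le_mul_of_nonneg_right hC6 hθb.le, sq_nonneg g]
    have hqmθ : θ ^ 2 ≤ q * m := by subst hθm hq; nlinarith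
    have : 25 * θ ^ 4 ≤ 20808 * θ ^ 3 := by
      nlinarith [pow_le_pow_left₀ (by positivity : (0 : ℤ) ≤ θ ^ 2) hqmθ 2,
        pow_le_pow_left₀ (by nlinarith : (0 : ℤ) ≤ 5 * (q * m)) hkey 2,
        mul_le_mul_of_nonneg_left hbup (show 0 ≤ θ by linarith)]
    nlinarith [mul_le_mul_of_nonneg_right hθ (show 0 ≤ θ ^ 3 by positivity)]
  · -- `η < 0`
    have hH1 : θ * b ≤ H := by
      refine le_of_mul_le_mul_left ?_ (show 0 < -η - θ by linarith)
      nlinarith
    have hCeq : -C * (-η - θ) ≤ θ ^ 2 * b + 16 * θ ^ 2 := by rw [hC]; nlinarith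
    have hC0 : C ≤ 0 := by linarith
    rw [abs_of_nonpos hC0] at hsize he2
    have hC6 : 50 * -C ≤ 26 * H := by
      refine le_of_mul_le_mul_left ?_ (show 0 < -η - θ by linarith)
      nlinarith [mul_nonneg hθb.le (show 0 ≤ 26 * (-η) - 50 * θ - 100 by linarith)]
    have hsq : (θ * b) ^ 2 ≤ H ^ 2 := by nlinarith
    have h3g : 3 ∣ 3 * g + e := by
      refine hpow.1 (htrans _ _ ?_)
      have h1 : θ * b * (4 * θ * (θ - 1)) < H ^ 2 := by
        nlinarith [mul_le_mul_of_nonneg_left hT4 hθb.le, mul_nonneg hθb.le (show 0 ≤ θ * b - 700 * θ ^ 2 by nlinarith)]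
      have h2 : H ^ 2 ≤ e * H * (H + 1) := by nlinarith [mul_le_mul_of_nonneg_right he hH.le]
      linarith
    have he3 : 3 ≤ e := by omega
    have hb4 : b ≤ 4 * θ ^ 2 := by rw [hη] at hn; nlinarith
    have hH2 : 9 * (θ * b) ^ 3 * (-η - θ) ≤ 16 * θ ^ 5 * b * (θ ^ 2 * b + 16 * θ ^ 2) := by
      have h1 : 9 * H ^ 3 ≤ (4 * θ * (θ - 1)) ^ 2 * (-C * (θ * b)) := by
        refine le_trans ?_ he2
        nlinarith [mul_le_mul_of_nonneg_right (show 9 ≤ e ^ 2 by nlinarith) (show 0 ≤ H ^ 2 * (H + 1) by positivity)]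
      have h1' : 9 * (θ * b) ^ 3 ≤ (4 * θ * (θ - 1)) ^ 2 * (-C * (θ * b)) := by
        linarith [pow_le_pow_left₀ hθb.le hH1 3]
      calc 9 * (θ * b) ^ 3 * (-η - θ) ≤ (4 * θ * (θ - 1)) ^ 2 * (-C * (θ * b)) * (-η - θ) :=
            mul_le_mul_of_nonneg_right h1' (by linarith)
        _ = (4 * θ * (θ - 1)) ^ 2 * (θ * b) * (-C * (-η - θ)) := by ring
        _ ≤ (4 * θ ^ 2) ^ 2 * (θ * b) * (-C * (-η - θ)) := by
            refine mul_le_mul_of_nonneg_right (mul_le_mul_of_nonneg_right ?_ hθb.le)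
              (mul_nonneg (by linarith) (by linarith))
            exact pow_le_pow_left₀ hT0.le hT4 2
        _ ≤ (4 * θ ^ 2) ^ 2 * (θ * b) * (θ ^ 2 * b + 16 * θ ^ 2) :=
            mul_le_mul_of_nonneg_left hCeq (by positivity)
        _ = _ := by ring
    have hblo : θ ^ 2 ≤ b := by
      by_contra hlt
      rw [not_le] at hlt
      have ha : 299 * θ ^ 2 ≤ 100 * (-η - θ) := by rw [hη]; nlinarith
      have h3 : 9 * b ^ 2 * (-η - θ) ≤ 16 * θ ^ 4 * (b + 16) := by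
        refine le_of_mul_le_mul_left ?_ (show 0 < θ ^ 3 * b by positivity)
        linear_combination hH2
      have h4' : 9 * 299 * b ^ 2 ≤ 1600 * θ ^ 2 * (b + 16) := by
        refine le_of_mul_le_mul_left ?_ (show 0 < θ ^ 2 by positivity)
        nlinarith [mul_le_mul_of_nonneg_left ha (show 0 ≤ 9 * b ^ 2 by positivity)]
      nlinarith [mul_le_mul_of_nonneg_right hb hb0.le,
        mul_nonneg (sq_nonneg θ) (show 0 ≤ b - 700 * θ by linarith)]
    have hbig : q ∣ 3 * g + e := by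
      refine hpow.2 (htrans _ _ ?_)
      have h1 : q * (θ * b) * (4 * θ * (θ - 1)) ≤ (2 * θ + 1) * (θ * b) * (4 * θ ^ 2) := by
        rw [show q = 2 * θ + 1 by linarith]
        exact mul_le_mul_of_nonneg_left hT4 (by positivity)
      have h2 : 9 * H ^ 2 < 3 * (e * H * (H + 1)) := by
        nlinarith [mul_le_mul_of_nonneg_right he3 (show 0 ≤ H * (H + 1) by positivity)]
      have h3 : (2 * θ + 1) * (θ * b) * (4 * θ ^ 2) ≤ 9 * H ^ 2 := by
        nlinarith [mul_le_mul_of_nonneg_left hblo (show 0 ≤ θ ^ 2 * b by positivity)]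
      linarith
    have hqm := qm_le hq (by linarith) hg he hbig h4 heH hH.le
    have hkey : 10 * (q * m) ≤ 201 * g := by
      refine le_of_mul_le_mul_right ?_ hH
      have h1 : (q + 4) * (4 * θ * (θ - 1)) * 10 ≤ 81 * H := by
        rw [show q = 2 * θ + 1 by linarith]
        nlinarith [mul_le_mul_of_nonneg_left hblo (show 0 ≤ θ by linarith)]
      nlinarith [mul_le_mul_of_nonneg_left h1 hg.le]
    have hg2 : 50 * g ^ 2 ≤ 26 * (θ * b) := by
      refine le_of_mul_le_mul_right ?_ hH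
      nlinarith [mul_le_mul_of_nonneg_right hC6 hθb.le, sq_nonneg g]
    have hqmθ : θ ^ 2 ≤ q * m := by subst hθm hq; nlinarith
    have : 100 * θ ^ 4 ≤ 84035 * θ ^ 3 := by
      nlinarith [pow_le_pow_left₀ (by positivity : (0 : ℤ) ≤ θ ^ 2) hqmθ 2,
        pow_le_pow_left₀ (by nlinarith : (0 : ℤ) ≤ 10 * (q * m)) hkey 2,
        mul_le_mul_of_nonneg_left hb4 (show 0 ≤ θ by linarith)]
    nlinarith [mul_le_mul_of_nonneg_right hθ (show 0 ≤ θ ^ 3 by positivity)]

end Cfsg.Agent.H22.Ward
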