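import Cfsg.Agent.H22.Ward.PairBounds

/-!
# Ward: upper bound in the pair case
-/

set_option autoImplicit false

namespace Cfsg.Agent.H22.Ward

/-- Upper bound for `b`, used for the two small fields. -/
theorem b_le {θ b η H C g e : ℤ} (hθ : 13 ≤ θ) (hη : η = b - 4 * θ * (θ - 1))
    (hH : 0 < H) (hC : C = θ * b - H)
    (hlo : -(16 * θ ^ 2) ≤ (η + θ) * H - θ * b * η)
    (hhi : (η + θ) * H - θ * b * η ≤ 4 * θ ^ 2)
    (he : 0 < e) (heH : e * H = g * (4 * θ * (θ - 1)))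
    (hsize : g ^ 2 * (H + 1) ≤ |C| * (θ * b)) : b ≤ 20 * θ ^ 2 := by
  by_contra hlt
  rw [not_le] at hlt
  have hb0 : 0 < b := by nlinarith
  have hθb : 0 < θ * b := by positivity
  have hηpos : 16 * θ ^ 2 ≤ η := by rw [hη]; nlinarith
  have hηθ : 0 < η + θ := by nlinarith
  have hH9 : 9 * (θ * b) ≤ 10 * H := by
    refine le_of_mul_le_mul_left ?_ hηθ
    nlinarith [mul_nonneg hθb.le (show 0 ≤ η - 9 * θ - 1 by nlinarith)]
  have hC0 : 0 ≤ C := by
    by_contra h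
    rw [not_le] at h
    nlinarith [mul_pos (show 0 < -C by linarith) hηθ]
  have hCeq : C * (η + θ) ≤ θ ^ 2 * b + 16 * θ ^ 2 := by rw [hC]; nlinarith
  rw [abs_of_nonneg hC0] at hsize
  have hT0 : 0 < 4 * θ * (θ - 1) := by nlinarith
  have h1 : H ^ 3 ≤ (4 * θ ^ 2) ^ 2 * (C * (θ * b)) := by
    calc H ^ 3 ≤ e ^ 2 * (H ^ 2 * (H + 1)) := by
          nlinarith [mul_le_mul_of_nonneg_right (show 1 ≤ e ^ 2 by nlinarith) (show 0 ≤ H ^ 2 * (H + 1) by positivity)]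
      _ = (e * H) ^ 2 * (H + 1) := by ring
      _ = (4 * θ * (θ - 1)) ^ 2 * (g ^ 2 * (H + 1)) := by rw [heH]; ring
      _ ≤ (4 * θ * (θ - 1)) ^ 2 * (C * (θ * b)) := mul_le_mul_of_nonneg_left hsize (sq_nonneg _)
      _ ≤ _ := mul_le_mul_of_nonneg_right (pow_le_pow_left₀ hT0.le (by nlinarith) 2)
          (mul_nonneg hC0 hθb.le)
  have h2 : (729 * (θ * b) ^ 3) * (η + θ) ≤ 16000 * θ ^ 5 * b * (θ ^ 2 * b + 16 * θ ^ 2) := by
    calc (729 * (θ * b) ^ 3) * (η + θ) ≤ (1000 * H ^ 3) * (η + θ) := by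
          refine mul_le_mul_of_nonneg_right ?_ hηθ.le
          have := pow_le_pow_left₀ (by positivity) hH9 3
          linear_combination this
      _ ≤ (1000 * ((4 * θ ^ 2) ^ 2 * (C * (θ * b)))) * (η + θ) :=
          mul_le_mul_of_nonneg_right (by linarith) hηθ.le
      _ = 16000 * θ ^ 5 * b * (C * (η + θ)) := by ring
      _ ≤ _ := mul_le_mul_of_nonneg_left hCeq (by positivity)
  have h3 : 729 * b ^ 2 * (η + θ) ≤ 16000 * θ ^ 4 * (b + 16) := by
    refine le_of_mul_le_mul_left ?_ (show 0 < θ ^ 3 * b by positivity)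
    linear_combination h2
  have h4 : 729 * 16 * b ^ 2 ≤ 16000 * θ ^ 2 * (b + 16) := by
    refine le_of_mul_le_mul_left ?_ (show 0 < θ ^ 2 by positivity)
    nlinarith [mul_le_mul_of_nonneg_left (show 16 * θ ^ 2 ≤ η + θ by linarith) (show 0 ≤ 729 * b ^ 2 by positivity)]
  nlinarith [mul_lt_mul_of_pos_right hlt hb0]

end Cfsg.Agent.H22.Ward
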