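import Cfsg.Agent.H22.Ward.PairCheck
import Cfsg.Agent.H22.Ward.PairLarge
import Cfsg.Agent.H22.Ward.PairUpper
import Mathlib.Tactic.IntervalCases

/-!
# Ward: the pair case is impossible (pure arithmetic)

Hypotheses: `q = 3 ^ k` (`k` odd, at least 3), `θ = (q-1)/2`, `m = (q+1)/4`, the signed degrees
`A, B, C` with `1 + A = B + C`, the order formula, the eliminated block relation, congruences,
two divisibilities and a lower bound for the group order.
-/

set_option autoImplicit false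

namespace Cfsg.Agent.H22.Ward

/-- `3 ^ k` is `3` modulo `8` for odd `k`. -/
theorem three_pow_mod (r : ℕ) : ∃ c : ℤ, (3 : ℤ) ^ (2 * r + 1) = 8 * c + 3 := by
  induction r with
  | zero => exact ⟨0, by norm_num⟩
  | succ n ih =>
    obtain ⟨c, hc⟩ := ih
    exact ⟨9 * c + 3, by rw [show 2 * (n + 1) + 1 = 2 * n + 1 + 2 by ring, pow_add, hc]; ring⟩

/-- Large fields. -/
theorem big_field (k : ℕ) (hk7 : 7 ≤ k) {θ m b η H C g e : ℤ} (hm : 4 * m = (3 : ℤ) ^ k + 1)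
    (hθ : θ = 2 * m - 1) (hblow : 16 * θ * m * (m - 1) ≤ 3 * (4 * m - 1) * b)
    (hη : η = b - 4 * θ * (θ - 1)) (hη2 : 2 * θ - 3 ≤ η ∨ η ≤ -2 * θ - 7) (hH : 0 < H)
    (hC : C = θ * b - H) (hlo : -(16 * θ ^ 2) ≤ (η + θ) * H - θ * b * η)
    (hhi : (η + θ) * H - θ * b * η ≤ 4 * θ ^ 2)
    (hg : 0 < g) (he : 0 < e) (heH : e * H = g * (4 * θ * (θ - 1)))
    (hsize : g ^ 2 * (H + 1) ≤ |C| * (θ * b)) (h4 : m ∣ 4 * g + e)
    (hpow : ∀ d : ℕ, d ≤ k → (3 : ℤ) ^ d * (θ * b) < 3 * (g * (H + 1)) → (3 : ℤ) ^ d ∣ 3 * g + e) :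
    False := by
  have hq7 : (2187 : ℤ) ≤ 3 ^ k := le_trans (by norm_num) (pow_le_pow_right₀ (by norm_num) hk7)
  have hm547 : 547 ≤ m := by linarith
  have hq : (3 : ℤ) ^ k = 4 * m - 1 := by linarith
  refine large_case (q := 4 * m - 1) (by linarith) hθ rfl ?_ hη hη2 hH hC hlo hhi hg he heH hsize h4
    ⟨fun h => ?_, fun h => ?_⟩
  · refine le_of_mul_le_mul_left ?_ (show 0 < 3 * (4 * m - 1) by linarith)
    have hpoly : 0 ≤ 40 * m ^ 2 - 430 * m - 195 := by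
      linarith [mul_le_mul_of_nonneg_right hm547 (show 0 ≤ m by linarith), sq m]
    have hmul : 0 ≤ θ * (40 * m ^ 2 - 430 * m - 195) := mul_nonneg (by linarith) hpoly
    subst hθ
    linear_combination 100 * hblow + hmul
  · have h1 := hpow 1 (by omega)
    rw [pow_one] at h1
    exact h1 h
  · have h1 := hpow k le_rfl
    rw [hq] at h1
    exact h1 h

/-- The two small fields. -/
theorem small_field (k : ℕ) (hk : Odd k) (hk3 : 3 ≤ k) (hk7 : k < 7) {θ m b η H : ℤ}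
    (hm : 4 * m = (3 : ℤ) ^ k + 1) (hθ : θ = 2 * m - 1) (hb8 : 8 ∣ b + 1) (hbm : m ∣ b - 3)
    (hb0 : 0 < b) (hbup : b ≤ 20 * θ ^ 2) (hη : η = b - 4 * θ * (θ - 1))
    (hquad : (η + θ) * H ^ 2 - θ * (b * η + 4 * θ - 5) * H + 4 * θ ^ 2 * (θ - 1) * b = 0) :
    False := by
  have hk' : k = 3 ∨ k = 5 := by obtain ⟨r, hr⟩ := hk; omega
  subst hη
  rcases hk' with rfl | rfl
  · norm_num at hm
    obtain rfl : m = 7 := by omega
    norm_num at hθ
    subst hθ
    obtain ⟨i, hi⟩ : (56 : ℤ) ∣ b - 31 := by omega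
    obtain ⟨n, rfl⟩ : ∃ n : ℕ, (n : ℤ) = i := ⟨i.toNat, by omega⟩
    obtain rfl : b = 56 * (n : ℤ) + 31 := by omega
    exact not_root_of_check (small_three n (by omega)) hquad
  · norm_num at hm
    obtain rfl : m = 61 := by omega
    norm_num at hθ
    subst hθ
    obtain ⟨i, hi⟩ : (488 : ℤ) ∣ b - 247 := by omega
    obtain ⟨n, rfl⟩ : ∃ n : ℕ, (n : ℤ) = i := ⟨i.toNat, by omega⟩
    obtain rfl : b = 488 * (n : ℤ) + 247 := by omega
    exact not_root_of_check (small_five n (by omega)) hquad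

/-- The pair case is impossible. -/
theorem no_pair (k : ℕ) (hk : Odd k) (hk3 : 3 ≤ k) (θ m A B C G : ℤ)
    (hm : 4 * m = (3 : ℤ) ^ k + 1) (hθ : θ = 2 * m - 1)
    (hsum : 1 + A = B + C) (hA1 : A ≠ 1)
    (hG : G = 2 * ((3 : ℤ) ^ k) ^ 3 * ((3 : ℤ) ^ k + 1) * (-B)) (hGpos : 0 < G)
    (hE : B * C * (1 + A) - θ ^ 2 * A * (1 + A) + 4 * θ ^ 2 * (θ - 1) * A * C = 0)
    (hA8 : 8 ∣ A - 1) (hAm : m ∣ A - 1) (hCm : m ∣ C + 1) (hB8 : 8 ∣ B - θ)
    (hdA : A ∣ G) (hdθ : θ ∣ G)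
    (hlow : 2 * (m - 1) * ((3 : ℤ) ^ k * (((3 : ℤ) ^ k) ^ 2 - 1)) ^ 2 ≤ 3 * G) : False := by
  have hq27 : (27 : ℤ) ≤ 3 ^ k := le_trans (by norm_num) (pow_le_pow_right₀ (by norm_num) hk3)
  have hm7 : 7 ≤ m := by linarith
  have hmo : Odd m := by
    obtain ⟨r, hr⟩ := hk
    obtain ⟨c, hc⟩ := three_pow_mod r
    rw [← hr] at hc
    exact Int.odd_iff.2 (by omega)
  have hθ13 : 13 ≤ θ := by linarith
  have hθodd : θ % 2 = 1 := by omega
  -- `θ` divides `B`
  obtain ⟨b, hb⟩ : ∃ b, B = -(θ * b) := by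
    have h2 : IsCoprime θ 2 := ⟨-1, m, by rw [hθ]; ring⟩
    have hqθ : IsCoprime θ ((3 : ℤ) ^ k) := ⟨-2, 1, by rw [hθ]; linear_combination -hm⟩
    have hq1 : IsCoprime θ ((3 : ℤ) ^ k + 1) := by
      have : (3 : ℤ) ^ k + 1 = 2 * (θ + 1) := by rw [hθ]; linear_combination -hm
      rw [this]
      exact h2.mul_right ⟨-1, 1, by ring⟩
    rw [hG, mul_neg, dvd_neg] at hdθ
    obtain ⟨c, hc⟩ := ((h2.mul_right hqθ.pow_right).mul_right hq1).dvd_of_dvd_mul_left hdθ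
    exact ⟨-c, by rw [hc]; ring⟩
  obtain ⟨H, hHA⟩ : ∃ H, A = -(H + 1) := ⟨-A - 1, by ring⟩
  have hC : C = θ * b - H := by rw [hb, hHA] at hsum; linear_combination -hsum
  have hEs : C * H * (H + C) = θ ^ 2 * (H + 1) * (H + 4 * (θ - 1) * C) := by
    rw [hb, hHA] at hE
    linear_combination hE + (C * H) * hC
  have hb0 : 0 < θ * b := by
    rw [hG, hb, neg_neg] at hGpos
    exact pos_of_mul_pos_right hGpos (by positivity)
  have hbpos : 0 < b := pos_of_mul_pos_right hb0 (by linarith)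
  obtain ⟨η, hη⟩ : ∃ η, η = b - 4 * θ * (θ - 1) := ⟨_, rfl⟩
  have hquad : (η + θ) * H ^ 2 - θ * (b * η + 4 * θ - 5) * H + 4 * θ ^ 2 * (θ - 1) * b = 0 := by
    refine mul_left_cancel₀ (show θ ≠ 0 by linarith) ?_
    rw [hC] at hEs
    rw [hη]
    linear_combination -hEs
  have hblow : 16 * θ * m * (m - 1) ≤ 3 * (4 * m - 1) * b := by
    refine le_of_mul_le_mul_left ?_ (show 0 < 8 * (4 * m - 1) ^ 2 * m * θ from mul_pos (mul_pos (mul_pos (by norm_num) (pow_pos (by linarith) 2)) (by linarith)) (by linarith))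
    rw [hG, hb, neg_neg, show (3 : ℤ) ^ k = 4 * m - 1 by linarith] at hlow
    subst hθ
    linear_combination hlow
  have hb4 : 4 * θ ≤ b := by
    refine le_of_mul_le_mul_left ?_ (show 0 < 3 * (4 * m - 1) by linarith)
    nlinarith [mul_nonneg (show 0 ≤ θ by linarith) (show 0 ≤ 16 * m * (m - 1) - 48 * m + 12 by nlinarith)]
  -- congruences
  have hbm : m ∣ b - 3 := by
    obtain ⟨c1, hc1⟩ := hAm
    obtain ⟨c2, hc2⟩ := hCm
    rw [hb] at hsum
    refine ⟨2 * b - c2 + c1, ?_⟩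
    subst hθ
    linear_combination hc1 - hc2 - hsum
  have hb8 : 8 ∣ b + 1 := by
    have h1 : IsCoprime (8 : ℤ) θ := by
      have h2 : IsCoprime (2 : ℤ) θ := ⟨m, -1, by rw [hθ]; ring⟩
      have := h2.pow_left (m := 3)
      norm_num at this
      exact this
    refine h1.dvd_of_dvd_mul_left ?_
    rw [hb] at hB8
    have := hB8.neg_right
    ring_nf at this ⊢
    exact this
  have hη2 : 2 * θ - 3 ≤ η ∨ η ≤ -2 * θ - 7 := by
    obtain ⟨j, hj⟩ : m ∣ η + 5 := by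
      obtain ⟨c, hc⟩ := hbm
      refine ⟨c - (16 * m - 24), ?_⟩
      subst hθ
      linear_combination hη + hc
    have h8 : 8 ∣ η + 5 - 4 := by
      obtain ⟨c, hc⟩ := hb8
      refine ⟨c - (2 * m - 1) * (m - 1), ?_⟩
      subst hθ
      linear_combination hη + hc
    obtain ⟨r, hr⟩ := hmo
    have hj4 : 4 ≤ j ∨ j ≤ -4 := by
      by_contra hcon
      rw [not_or, not_le, not_le] at hcon
      obtain ⟨hu, hl⟩ := hcon
      interval_cases j <;> omega
    have hm0 : (0 : ℤ) ≤ m := by linarith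
    rcases hj4 with h | h
    · left; linarith [mul_le_mul_of_nonneg_left h hm0]
    · right; linarith [mul_le_mul_of_nonneg_left h hm0]
  have hHlarge : 4 * θ + 2 ≤ H ∨ H ≤ -4 * θ - 2 := by
    have h1 : IsCoprime (8 : ℤ) m := by
      obtain ⟨r, hr⟩ := hmo
      have h2 : IsCoprime (2 : ℤ) m := ⟨-r, 1, by rw [hr]; ring⟩
      have := h2.pow_left (m := 3)
      norm_num at this
      exact this
    obtain ⟨i, hi⟩ := h1.mul_dvd hA8 hAm
    have hi0 : i ≠ 0 := by rintro rfl; exact hA1 (by linarith)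
    have hm0 : (0 : ℤ) ≤ 8 * m := by linarith
    rcases lt_or_gt_of_ne hi0 with h | h
    · left; linarith [mul_le_mul_of_nonneg_left (show i ≤ -1 by omega) hm0]
    · right; linarith [mul_le_mul_of_nonneg_left (show 1 ≤ i by omega) hm0]
  obtain ⟨hH, hlo, hhi, -, -⟩ := rem_bound hθ13 hb4 hη2 hHlarge hquad
  have hC0 : C ≠ 0 := by
    intro h0
    rw [h0] at hEs
    have : θ ^ 2 * (H + 1) * H = 0 := by linear_combination -hEs
    rcases mul_eq_zero.1 this with h | h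
    · rcases mul_eq_zero.1 h with h | h
      · nlinarith
      · linarith
    · linarith
  have hHm : m ∣ H + 2 := by
    rw [hHA] at hAm
    have := hAm.neg_right
    ring_nf at this ⊢
    exact this
  have hHev : 2 ∣ H := by omega
  have hsum' : H + C = θ * b := by rw [hC]; ring
  have hA' : H + 1 ∣ 2 * ((3 : ℤ) ^ k) ^ 3 * ((3 : ℤ) ^ k + 1) * (H + C) := by
    rw [hsum', ← neg_dvd, ← hHA, show θ * b = -B by rw [hb]; ring, ← hG]
    exact hdA
  obtain ⟨g, e, hg, he, heH, hsize, h4, hpow⟩ :=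
    gcd_data hθ (k := k) (by linarith) (by linarith) hmo hH hHm hHev hsum' hbpos hC0 hEs hA'
  by_cases hk7 : 7 ≤ k
  · exact big_field k hk7 (by linarith) hθ hblow hη hη2 hH hC hlo hhi hg he heH hsize h4 hpow
  · exact small_field k hk hk3 (by omega) hm hθ hb8 hbm hbpos
      (b_le hθ13 hη hH hC hlo hhi he heH hsize) hη hquad

end Cfsg.Agent.H22.Ward
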