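import Mathlib.Data.Int.GCD
import Mathlib.Data.Nat.Prime.Basic
import Mathlib.RingTheory.Coprime.Lemmas
import Mathlib.RingTheory.Int.Basic
import Mathlib.Algebra.Order.Ring.Abs
import Mathlib.Tactic.Linarith
import Mathlib.Tactic.Ring
import Mathlib.Tactic.LinearCombination

/-!
# Ward: size estimates for the pair case

In the pair case (both exceptional constituents are `θ`-characters) the integers `H = -(1+A)`,
`C` and `b = -B/θ` satisfy one quadratic relation.  This file contains the elementary estimates and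
divisibility consequences of this relation.
-/

set_option autoImplicit false

namespace Cfsg.Agent.H22.Ward

/-- A number dividing `3 ^ j * v` and larger than `3 ^ k * v / 3` is divisible by `3 ^ k`. -/
theorem pow_dvd_of_big (k j n v : ℕ) (hn : n ∣ 3 ^ j * v) (hv : 0 < v)
    (hbig : 3 ^ k * v < 3 * n) : 3 ^ k ∣ n := by
  obtain ⟨a, -, ha⟩ := (Nat.dvd_prime_pow Nat.prime_three).1 (Nat.gcd_dvd_right n (3 ^ j))
  have h1 : n ∣ 3 ^ a * v := by
    rw [← ha]
    exact (Nat.dvd_gcd (Nat.dvd_mul_right n v) hn).trans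
      (by rw [Nat.gcd_mul_right])
  have h2 : n ≤ 3 ^ a * v := Nat.le_of_dvd (by positivity) h1
  have h3 : 3 ^ k * v < 3 ^ (a + 1) * v := by
    rw [pow_succ]
    calc 3 ^ k * v < 3 * n := hbig
      _ ≤ 3 * (3 ^ a * v) := Nat.mul_le_mul le_rfl h2
      _ = 3 ^ a * 3 * v := by ring
  have h4 : k < a + 1 := (Nat.pow_lt_pow_iff_right (by norm_num)).1 (Nat.lt_of_mul_lt_mul_right h3)
  exact (Nat.pow_dvd_pow 3 (Nat.lt_succ_iff.1 h4)).trans (ha ▸ Nat.gcd_dvd_left n (3 ^ j))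

/-- Size of the remainder `S = (η+θ)H - θbη`. -/
theorem rem_bound {θ b η H : ℤ} (hθ : 13 ≤ θ) (hb : 4 * θ ≤ b) (hη : 2 * θ - 3 ≤ η ∨ η ≤ -2 * θ - 7)
    (hH : 4 * θ + 2 ≤ H ∨ H ≤ -4 * θ - 2)
    (hq : (η + θ) * H ^ 2 - θ * (b * η + 4 * θ - 5) * H + 4 * θ ^ 2 * (θ - 1) * b = 0) :
    0 < H ∧ -(16 * θ ^ 2) ≤ (η + θ) * H - θ * b * η ∧ (η + θ) * H - θ * b * η ≤ 4 * θ ^ 2 ∧
      (0 < η → θ * b ≤ 4 * H) ∧ (η < 0 → θ * b ≤ H) := by
  obtain ⟨S, hS⟩ : ∃ S, S = (η + θ) * H - θ * b * η := ⟨_, rfl⟩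
  have hHS : H * S = θ * (4 * θ - 5) * H - 4 * θ ^ 2 * (θ - 1) * b := by
    rw [hS]; linear_combination hq
  have h1 : θ * (4 * θ - 5) ≤ θ ^ 2 * b := by nlinarith
  have hcrude : -(θ ^ 2 * b) ≤ S ∧ S ≤ θ ^ 2 * b := by
    have hb0 : 0 ≤ b := by linarith
    rcases hH with h | h
    · constructor
      · refine le_of_mul_le_mul_left ?_ (show 0 < H by linarith)
        nlinarith [mul_nonneg (mul_nonneg (sq_nonneg θ) hb0) (show 0 ≤ H - 4 * θ - 2 by linarith),
          mul_nonneg (show 0 ≤ θ * (4 * θ - 5) by nlinarith) (show 0 ≤ H by linarith),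
          mul_nonneg (sq_nonneg θ) hb0]
      · refine le_of_mul_le_mul_left ?_ (show 0 < H by linarith)
        nlinarith [mul_nonneg (show 0 ≤ θ ^ 2 * b - θ * (4 * θ - 5) by linarith)
          (show 0 ≤ H by linarith), mul_nonneg (mul_nonneg (sq_nonneg θ) hb0) (show 0 ≤ θ - 1 by linarith)]
    · constructor
      · refine le_of_mul_le_mul_left ?_ (show 0 < -H by linarith)
        nlinarith [mul_nonneg (show 0 ≤ θ ^ 2 * b - θ * (4 * θ - 5) by linarith)
          (show 0 ≤ -H by linarith), mul_nonneg (mul_nonneg (sq_nonneg θ) hb0) (show 0 ≤ θ - 1 by linarith),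
          mul_nonneg (show 0 ≤ θ * (4 * θ - 5) by nlinarith) (show 0 ≤ -H by linarith)]
      · refine le_of_mul_le_mul_left ?_ (show 0 < -H by linarith)
        nlinarith [mul_nonneg (mul_nonneg (sq_nonneg θ) hb0) (show 0 ≤ -H - 4 * θ - 2 by linarith),
          mul_nonneg (show 0 ≤ θ * (4 * θ - 5) by nlinarith) (show 0 ≤ -H by linarith),
          mul_nonneg (sq_nonneg θ) hb0]
  have hθb : 0 < θ * b := by nlinarith
  have hHpos : 0 < H := by
    rcases hη with h | h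
    · have : 0 < (η + θ) * H := by
        nlinarith [hcrude.1, mul_pos hθb (show 0 < η - θ by linarith)]
      by_contra hle
      nlinarith [mul_nonneg (show 0 ≤ η + θ by linarith) (show 0 ≤ -H by linarith)]
    · have : (η + θ) * H < 0 := by
        nlinarith [hcrude.2, mul_pos hθb (show 0 < -η - θ by linarith)]
      by_contra hle
      nlinarith [mul_nonneg (show 0 ≤ -η - θ by linarith) (show 0 ≤ -H by linarith)]
  have hlowpos : 0 < η → θ * b ≤ 4 * H := by
    intro hη0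
    have h : 2 * θ - 3 ≤ η := hη.resolve_right (by omega)
    refine le_of_mul_le_mul_left ?_ (show 0 < η + θ by linarith)
    nlinarith [hcrude.1, mul_nonneg hθb.le (show 0 ≤ 3 * η - 5 * θ by linarith)]
  have hlowneg : η < 0 → θ * b ≤ H := by
    intro hη0
    have h : η ≤ -2 * θ - 7 := hη.resolve_left (by omega)
    refine le_of_mul_le_mul_left ?_ (show 0 < -η - θ by linarith)
    nlinarith [hcrude.2]
  have h4H : θ * b ≤ 4 * H := by
    rcases lt_trichotomy η 0 with h | h | h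
    · linarith [hlowneg h]
    · omega
    · exact hlowpos h
  refine ⟨hHpos, ?_, ?_, hlowpos, hlowneg⟩
  · rw [← hS]
    refine le_of_mul_le_mul_left ?_ hHpos
    nlinarith [mul_nonneg (mul_nonneg (show 0 ≤ θ by linarith) (show 0 ≤ θ - 1 by linarith))
      (show 0 ≤ 4 * H - θ * b by linarith), mul_nonneg (show 0 ≤ θ * (4 * θ - 5) by nlinarith) hHpos.le,
      mul_nonneg (show 0 ≤ θ by linarith) hHpos.le]
  · rw [← hS]
    refine le_of_mul_le_mul_left ?_ hHpos
    nlinarith [mul_nonneg (mul_nonneg (sq_nonneg θ) (show 0 ≤ b by linarith))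
      (show 0 ≤ θ - 1 by linarith), mul_nonneg (show 0 ≤ θ by linarith) hHpos.le]

/-- Consequences of the divisibility structure: with `g = gcd(H, C)`, `H = g x`, `C = g w`,
`v = x + w`, `T₀ = 4θ(θ-1) = x e`. -/
theorem gcd_data {k : ℕ} {θ m b H C : ℤ} (hθ : θ = 2 * m - 1) (hq : (3 : ℤ) ^ k = 4 * m - 1)
    (hm : 3 ≤ m) (hmo : Odd m) (hH : 0 < H) (hHm : m ∣ H + 2) (hHev : 2 ∣ H)
    (hsum : H + C = θ * b) (hb : 0 < b) (hC : C ≠ 0)
    (hE : C * H * (H + C) = θ ^ 2 * (H + 1) * (H + 4 * (θ - 1) * C))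
    (hA : H + 1 ∣ 2 * ((3 : ℤ) ^ k) ^ 3 * ((3 : ℤ) ^ k + 1) * (H + C)) :
    ∃ g e : ℤ, 0 < g ∧ 0 < e ∧ e * H = g * (4 * θ * (θ - 1)) ∧
      g ^ 2 * (H + 1) ≤ |C| * (θ * b) ∧ m ∣ 4 * g + e ∧
      ∀ d : ℕ, d ≤ k → (3 : ℤ) ^ d * (θ * b) < 3 * (g * (H + 1)) → (3 : ℤ) ^ d ∣ 3 * g + e := by
  have hθ1 : 5 ≤ θ := by linarith
  obtain ⟨x, w, hco, hx, hw⟩ := Int.exists_gcd_one
    (Int.gcd_pos_of_ne_zero_left C hH.ne' : 0 < Int.gcd H C)
  obtain ⟨g, hg⟩ : ∃ g : ℤ, g = (Int.gcd H C : ℤ) := ⟨_, rfl⟩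
  rw [← hg] at hx hw
  have hg0 : 0 < g := by
    rw [hg]; exact_mod_cast Int.gcd_pos_of_ne_zero_left C hH.ne'
  have hx0 : 0 < x := by
    by_contra h
    nlinarith [mul_nonpos_of_nonpos_of_nonneg (not_lt.1 h) hg0.le]
  have hgv : g * (x + w) = θ * b := by linear_combination hsum - hx - hw
  have hv0 : 0 < x + w := by
    by_contra h
    nlinarith [mul_nonpos_of_nonneg_of_nonpos hg0.le (not_lt.1 h), mul_pos (show 0 < θ by linarith) hb]
  have hw0 : w ≠ 0 := by rintro rfl; exact hC (by rw [hw, zero_mul])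
  have hθ0 : θ ≠ 0 := by linarith
  -- the relation divided by `g` and by `θ`
  have hE1 : g * x * w * b = θ * (g * x + 1) * (x + 4 * (θ - 1) * w) := by
    refine mul_left_cancel₀ (mul_ne_zero hg0.ne' hθ0) ?_
    rw [hx, hw] at hE
    linear_combination hE - (x * g * (w * g)) * hgv
  have hcop : IsCoprime x w := Int.isCoprime_iff_gcd_eq_one.2 hco
  -- `x` divides `4θ(θ-1)`
  have hxT : x ∣ 4 * θ * (θ - 1) := by
    have h1 : IsCoprime x (g * x + 1) := ⟨-g, 1, by ring⟩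
    refine hcop.dvd_of_dvd_mul_right (h1.dvd_of_dvd_mul_right ?_)
    exact ⟨g * w * b - θ * (g * x + 1), by linear_combination -hE1⟩
  obtain ⟨e, he⟩ := hxT
  have he0 : 0 < e := by
    by_contra h
    nlinarith [mul_nonpos_of_nonneg_of_nonpos hx0.le (not_lt.1 h),
      mul_pos (show 0 < θ by linarith) (show 0 < θ - 1 by linarith)]
  have heH : e * H = g * (4 * θ * (θ - 1)) := by rw [he, hx]; ring
  -- `g x + 1` divides `w v`
  have hdwv : g * x + 1 ∣ w * (x + w) := by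
    have h1 : IsCoprime (g * x + 1) (g ^ 2 * x) := by
      have hg1 : IsCoprime (g * x + 1) g := ⟨1, -x, by ring⟩
      have hx1 : IsCoprime (g * x + 1) x := ⟨1, -g, by ring⟩
      exact (hg1.pow_right).mul_right hx1
    refine h1.dvd_of_dvd_mul_left ?_
    exact ⟨θ ^ 2 * (x + 4 * (θ - 1) * w), by linear_combination g * x * w * hgv + θ * hE1⟩
  have hsize : g ^ 2 * (H + 1) ≤ |C| * (θ * b) := by
    have hwv : g * x + 1 ≤ |w * (x + w)| := by
      refine Int.le_of_dvd (abs_pos.2 (mul_ne_zero hw0 hv0.ne')) ?_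
      exact (dvd_abs _ _).2 hdwv
    rw [abs_mul, abs_of_pos hv0] at hwv
    rw [hw, abs_mul, abs_of_pos hg0, ← hgv, hx]
    nlinarith [mul_le_mul_of_nonneg_left hwv (sq_nonneg g)]
  -- congruence modulo `m`
  have hgem : m ∣ 4 * g + e := by
    have h8 : m ∣ 2 * (4 * g + e) := by
      obtain ⟨c, hc⟩ := hHm
      refine ⟨e * c - g * (16 * m - 24), ?_⟩
      subst hθ
      linear_combination e * hc - heH
    have h2 : IsCoprime m 2 := by
      obtain ⟨r, hr⟩ := hmo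
      exact ⟨1, -r, by rw [hr]; ring⟩
    exact h2.dvd_of_dvd_mul_left h8
  refine ⟨g, e, hg0, he0, heH, hsize, hgem, ?_⟩
  intro d hdk hbig
  -- `g x + 1` divides `3 ^ (3 k) * v`
  have hdiv : g * x + 1 ∣ (3 : ℤ) ^ (3 * k) * (x + w) := by
    have hn : H + 1 = g * x + 1 := by rw [hx]; ring
    have hodd : IsCoprime (g * x + 1) 2 := by
      obtain ⟨r, hr⟩ := hHev
      exact ⟨1, -r, by linear_combination -hn + hr⟩
    have hgc : IsCoprime (g * x + 1) g := ⟨1, -x, by ring⟩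
    have hmc : IsCoprime (g * x + 1) m := by
      obtain ⟨c, hc⟩ := hHm
      exact ⟨-1, c, by linear_combination hn - hc⟩
    rw [hn] at hA
    have hA' : g * x + 1 ∣ ((3 : ℤ) ^ (3 * k) * (x + w)) * (2 * 2 * 2 * m * g) := by
      refine hA.trans (dvd_of_eq ?_)
      rw [hq, pow_mul', hq, hx, hw]
      ring
    exact ((((hodd.mul_right hodd).mul_right hodd).mul_right hmc).mul_right hgc).dvd_of_dvd_mul_right hA'
  have hn0 : 0 < g * x + 1 := by nlinarith
  have hdn : (3 : ℤ) ^ d ∣ g * x + 1 := by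
    lift g * x + 1 to ℕ using hn0.le with n hn
    lift x + w to ℕ using hv0.le with v hv
    have h1 : n ∣ 3 ^ (3 * k) * v := by exact_mod_cast hdiv
    have h2 : 3 ^ d * v < 3 * n := by
      have : (3 : ℤ) ^ d * (v : ℤ) * g < 3 * (n : ℤ) * g := by
        rw [hv, hn]
        calc (3 : ℤ) ^ d * (x + w) * g = 3 ^ d * (θ * b) := by rw [← hgv, hv]; ring
          _ < 3 * (g * (H + 1)) := hbig
          _ = 3 * (g * x + 1) * g := by rw [hx]; ring
      exact_mod_cast lt_of_mul_lt_mul_right this hg0.le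
    exact_mod_cast pow_dvd_of_big d (3 * k) n v h1 (by omega) h2
  obtain ⟨c, hc⟩ := hdn
  obtain ⟨c', hc'⟩ := (pow_dvd_pow (3 : ℤ) hdk)
  refine ⟨e * c - g * c' * (4 * m - 5), ?_⟩
  subst hθ
  linear_combination e * hc - g * (4 * m - 5) * hc' + g * (4 * m - 5) * hq + g * he

end Cfsg.Agent.H22.Ward
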