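import Mathlib.Data.Nat.Sqrt
import Mathlib.Tactic.Ring
import Mathlib.Tactic.LinearCombination

/-!
# Ward: the two small fields of the pair case (kernel check of discriminants)
-/

set_option autoImplicit false

namespace Cfsg.Agent.H22.Ward

/-- The discriminant of the quadratic in `H`. -/
def pairDisc (θ b : ℤ) : ℤ :=
  (θ * (b * (b - 4 * θ * (θ - 1)) + 4 * θ - 5)) ^ 2
    - 4 * (b - 4 * θ * (θ - 1) + θ) * (4 * θ ^ 2 * (θ - 1) * b)

theorem small_three : ∀ i < 62,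
    pairDisc 13 (56 * (i : ℕ) + 31) < 0 ∨
      (pairDisc 13 (56 * (i : ℕ) + 31)).toNat.sqrt ^ 2
        ≠ (pairDisc 13 (56 * (i : ℕ) + 31)).toNat := by
  decide +kernel

theorem small_five : ∀ i < 602,
    pairDisc 121 (488 * (i : ℕ) + 247) < 0 ∨
      (pairDisc 121 (488 * (i : ℕ) + 247)).toNat.sqrt ^ 2
        ≠ (pairDisc 121 (488 * (i : ℕ) + 247)).toNat := by
  decide +kernel

theorem not_root_of_check {θ b H : ℤ}
    (hc : pairDisc θ b < 0 ∨ (pairDisc θ b).toNat.sqrt ^ 2 ≠ (pairDisc θ b).toNat)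
    (hq : (b - 4 * θ * (θ - 1) + θ) * H ^ 2
      - θ * (b * (b - 4 * θ * (θ - 1)) + 4 * θ - 5) * H + 4 * θ ^ 2 * (θ - 1) * b = 0) : False := by
  obtain ⟨z, hz⟩ : ∃ z : ℤ, pairDisc θ b = z ^ 2 :=
    ⟨2 * (b - 4 * θ * (θ - 1) + θ) * H - θ * (b * (b - 4 * θ * (θ - 1)) + 4 * θ - 5), by
      rw [pairDisc]; linear_combination (-4 * (b - 4 * θ * (θ - 1) + θ)) * hq⟩
  rw [hz] at hc
  rcases hc with h | h
  · exact absurd h (not_lt.2 (sq_nonneg z))
  · apply h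
    have : (z ^ 2).toNat = z.natAbs ^ 2 := by
      rw [← Int.natAbs_pow, ← Int.toNat_natCast (z ^ 2).natAbs,
        Int.natAbs_of_nonneg (sq_nonneg z)]
    rw [this, Nat.sqrt_eq']

end Cfsg.Agent.H22.Ward
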