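import Mathlib.Algebra.Order.Ring.Abs
import Mathlib.Tactic.Linarith
import Mathlib.Tactic.Ring
import Mathlib.Tactic.LinearCombination

/-!
# Ward, pair case for `q ≡ 5 (mod 8)`: size estimates

`T = 4n(n+1)`, `η = b - T`, and `(η-n)K² + (T+n-nbη)K - nbT = 0`.
-/

set_option autoImplicit false

namespace Cfsg.Agent.H22.Ward

/-- `K` is positive; `C = K - nb` has the sign of `η`, and both are controlled by `η`. -/
theorem plus_rem {n b η K : ℤ} (hn : 15 ≤ n) (hb : n ^ 2 ≤ 2 * b)
    (hη2 : 2 * n - 7 ≤ η ∨ η ≤ -2 * n - 3)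
    (hK : 4 * n - 6 ≤ K ∨ K ≤ -(4 * n - 6))
    (hq : (η - n) * K ^ 2 + (4 * n * (n + 1) + n - n * b * η) * K
      - n * b * (4 * n * (n + 1)) = 0) :
    0 < K ∧ K ≠ n * b ∧
      (0 < η → n * b < K ∧ (η - n) * (K - n * b) ≤ n ^ 2 * b) ∧
      (η < 0 → K < n * b ∧ (-η + n) * (n * b - K) ≤ n ^ 2 * b + 20 * n * (n + 1) ∧
        n * b * (-η) - 20 * n * (n + 1) ≤ (-η + n) * K) := by
  obtain ⟨T, hT⟩ : ∃ T, T = 4 * n * (n + 1) := ⟨_, rfl⟩
  obtain ⟨S, hS⟩ : ∃ S, S = (η - n) * K - n * b * η := ⟨_, rfl⟩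
  rw [← hT] at hq
  have hKS : K * (S + T + n) = n * b * T := by rw [hS]; linear_combination hq
  have hb0 : 0 < b := by nlinarith
  have hT0 : 0 < T := by rw [hT]; positivity
  have hnb : 0 < n * b := by positivity
  have hTn : T + n ≤ n * (4 * n + 5) := by rw [hT]; linarith [sq n]
  have hbig : 4 * n + 5 < n * b := by nlinarith
  have hTb : T + n < n ^ 2 * b := by nlinarith
  -- crude bounds on `S`
  have hcr : -(3 * n ^ 2 * b) < 2 * S ∧ 2 * S < 3 * n ^ 2 * b := by
    have hpoly : 2 * (n * b * T) + 2 * (T + n) * (4 * n - 6) < 3 * n ^ 2 * b * (4 * n - 6) := by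
      have h1 : 2 * (T + n) * (4 * n - 6) ≤ 2 * (n * (4 * n + 5)) * (4 * n) :=
        le_trans (mul_le_mul_of_nonneg_right (by linarith) (by linarith))
          (mul_le_mul_of_nonneg_left (by linarith) (by positivity))
      rw [hT] at h1 ⊢
      nlinarith [mul_le_mul_of_nonneg_left hb (show 0 ≤ n ^ 2 * (4 * n - 26) by nlinarith)]
    rcases hK with h | h
    · constructor
      · refine lt_of_mul_lt_mul_left ?_ (show 0 ≤ K by linarith)
        nlinarith [mul_le_mul_of_nonneg_left h (show 0 ≤ 3 * n ^ 2 * b - 2 * (T + n) by nlinarith)]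
      · refine lt_of_mul_lt_mul_left ?_ (show 0 ≤ K by linarith)
        nlinarith [mul_le_mul_of_nonneg_left h (show 0 ≤ 3 * n ^ 2 * b by positivity)]
    · constructor
      · refine lt_of_mul_lt_mul_left ?_ (show 0 ≤ -K by linarith)
        nlinarith [mul_le_mul_of_nonneg_left (show 4 * n - 6 ≤ -K by linarith)
          (show 0 ≤ 3 * n ^ 2 * b - 2 * (T + n) by nlinarith), mul_pos hnb hT0]
      · refine lt_of_mul_lt_mul_left ?_ (show 0 ≤ -K by linarith)
        nlinarith [mul_le_mul_of_nonneg_left (show 4 * n - 6 ≤ -K by linarith)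
          (show 0 ≤ 3 * n ^ 2 * b + 2 * (T + n) by positivity)]
  rcases hη2 with hp | hm
  · have h1 : 3 * n + 1 ≤ 2 * η := by omega
    have hηn : 0 < η - n := by linarith
    have hK0 : 0 < K := by
      have : 0 < (η - n) * K := by
        nlinarith [mul_le_mul_of_nonneg_left h1 hnb.le, hcr.1]
      exact pos_of_mul_pos_right this hηn.le
    have hSlo : 0 < S + T + n := pos_of_mul_pos_right (by rw [hKS]; positivity) hK0.le
    have hC : 0 < (η - n) * (K - n * b) := by
      rw [show (η - n) * (K - n * b) = n ^ 2 * b + S by rw [hS]; ring]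
      linarith
    have hKn : n * b < K := by linarith [pos_of_mul_pos_right hC hηn.le]
    refine ⟨hK0, hKn.ne', fun _ => ⟨hKn, ?_⟩, fun h => absurd h (by linarith)⟩
    rw [show (η - n) * (K - n * b) = n ^ 2 * b + S by rw [hS]; ring]
    have h2 : S + T + n ≤ T := by
      refine le_of_mul_le_mul_left ?_ hK0
      rw [hKS]
      exact mul_le_mul_of_nonneg_right hKn.le hT0.le
    linarith
  · have h1 : 3 * n + 1 ≤ -2 * η := by linarith
    have han : 0 < -η + n := by linarith
    have hlow1 : n * b * (-2 * η - 3 * n) ≤ 2 * ((-η + n) * K) := by nlinarith [hcr.2]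
    have hK0 : 0 < K := by
      have : 0 < n * b * (-2 * η - 3 * n) := mul_pos hnb (by linarith)
      exact pos_of_mul_pos_right (show 0 < (-η + n) * K by linarith) han.le
    have hK6 : n * b ≤ 6 * K := by
      refine le_of_mul_le_mul_left ?_ han
      nlinarith [mul_le_mul_of_nonneg_left (show 10 * n ≤ -5 * η by linarith) hnb.le]
    have hSlo : 0 < S + T + n := pos_of_mul_pos_right (by rw [hKS]; positivity) hK0.le
    have hShi : S + T + n ≤ 6 * T := by
      refine le_of_mul_le_mul_left ?_ hK0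
      rw [hKS]
      linarith [mul_le_mul_of_nonneg_right hK6 hT0.le]
    have hC : 0 < (-η + n) * (n * b - K) := by
      rw [show (-η + n) * (n * b - K) = n ^ 2 * b + S by rw [hS]; ring]
      linarith
    have hKn : K < n * b := by linarith [pos_of_mul_pos_right hC han.le]
    refine ⟨hK0, hKn.ne, fun h => absurd h (by linarith), fun _ => ⟨hKn, ?_, ?_⟩⟩
    · rw [show (-η + n) * (n * b - K) = n ^ 2 * b + S by rw [hS]; ring]
      linarith
    · rw [show (-η + n) * K = n * b * (-η) - S by rw [hS]; ring]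
      linarith

/-- Upper bound for `b`. -/
theorem plus_b_le {n b η K g e : ℤ} (hn : 15 ≤ n) (hη : η = b - 4 * n * (n + 1)) (he : 0 < e)
    (heK : e * K = g * (4 * n * (n + 1))) (hP : 0 < η → n * b < K ∧ (η - n) * (K - n * b) ≤ n ^ 2 * b)
    (hsize : g ^ 2 * (K - 1) ≤ |K - n * b| * (n * b)) : b ≤ 8 * n ^ 2 := by
  by_contra hlt
  rw [not_le] at hlt
  have hηn : 3 * n ^ 2 ≤ η - n := by rw [hη]; nlinarith
  obtain ⟨hKn, hC⟩ := hP (by nlinarith)
  rw [abs_of_pos (show 0 < K - n * b by linarith)] at hsize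
  obtain ⟨T, hT⟩ : ∃ T, T = 4 * n * (n + 1) := ⟨_, rfl⟩
  rw [← hT] at heK
  have hb0 : 0 < b := by nlinarith
  have hnb : 0 < n * b := by positivity
  have h1 : (n * b) ^ 2 ≤ T ^ 2 * (K - n * b) := by
    refine le_of_mul_le_mul_right ?_ hnb
    calc (n * b) ^ 2 * (n * b) ≤ K ^ 2 * (K - 1) :=
          mul_le_mul (pow_le_pow_left₀ hnb.le hKn.le 2) (by omega) hnb.le (sq_nonneg _)
      _ ≤ (e * K) ^ 2 * (K - 1) := by
          refine mul_le_mul_of_nonneg_right (pow_le_pow_left₀ (by linarith) ?_ 2) (by linarith)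
          exact le_mul_of_one_le_left (by linarith) he
      _ = T ^ 2 * (g ^ 2 * (K - 1)) := by rw [heK]; ring
      _ ≤ T ^ 2 * ((K - n * b) * (n * b)) := mul_le_mul_of_nonneg_left hsize (sq_nonneg _)
      _ = _ := by ring
  have h2 : (η - n) * b ≤ T ^ 2 := by
    refine le_of_mul_le_mul_left ?_ (show 0 < n ^ 2 * b by positivity)
    calc n ^ 2 * b * ((η - n) * b) = (η - n) * (n * b) ^ 2 := by ring
      _ ≤ (η - n) * (T ^ 2 * (K - n * b)) := mul_le_mul_of_nonneg_left h1 (by nlinarith)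
      _ = T ^ 2 * ((η - n) * (K - n * b)) := by ring
      _ ≤ T ^ 2 * (n ^ 2 * b) := mul_le_mul_of_nonneg_left hC (sq_nonneg _)
      _ = _ := by ring
  have h3 : 3 * n ^ 2 * (8 * n ^ 2) ≤ (η - n) * b :=
    mul_le_mul hηn hlt.le (by positivity) (by linarith [sq_nonneg n])
  have h4 : 16 * (n + 1) ^ 2 < 24 * n ^ 2 := by nlinarith
  have h5 := mul_lt_mul_of_pos_left h4 (show 0 < n ^ 2 by positivity)
  rw [hT] at h2
  nlinarith

end Cfsg.Agent.H22.Ward
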