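import Cfsg.Agent.H22.Ward.PlusDefs

/-!
# Ward, pair case for `q ≡ 5 (mod 8)`: kernel check, `69 ≤ m ≤ 95` and two columns up to `403`
-/

set_option autoImplicit false

namespace Cfsg.Agent.H22.Ward

theorem plus_small_b : ∀ r < 14, ∀ i < 4 * (2 * r + 69) + 12,
    plusOk (2 * (r : ℕ) + 69) (4 + 8 * ((i : ℕ) - (2 * (2 * (r : ℕ) + 69) + 6))) = true := by
  decide +kernel

theorem plus_mid : ∀ r < 154, plusOk (2 * (r : ℕ) + 97) 4 = true ∧
    plusOk (2 * (r : ℕ) + 97) (-4) = true := by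
  decide +kernel

end Cfsg.Agent.H22.Ward
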