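import Mathlib.Algebra.Order.Ring.Abs
import Mathlib.Data.Int.GCD
import Mathlib.Data.Nat.Prime.Basic
import Mathlib.RingTheory.Coprime.Lemmas
import Mathlib.RingTheory.Int.Basic
import Mathlib.Tactic.Linarith
import Mathlib.Tactic.Ring
import Mathlib.Tactic.LinearCombination

/-!
# Ward, pair case for `q ≡ 5 (mod 8)`: divisibility
-/

set_option autoImplicit false

namespace Cfsg.Agent.H22.Ward

/-- A divisor of `p ^ (3 k) * v` not divisible by `p ^ k` divides `gcd(N, p ^ k) * v`. -/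
theorem dvd_gcd_mul {p k N v : ℕ} (hp : p.Prime) (hN : N ∣ p ^ (3 * k) * v)
    (hD : Nat.gcd N (p ^ k) ≠ p ^ k) : N ∣ Nat.gcd N (p ^ k) * v := by
  obtain ⟨j, -, hj⟩ := (Nat.dvd_prime_pow hp).1 (Nat.gcd_dvd_right N (p ^ (3 * k)))
  have h1 : N ∣ p ^ j * v := by
    rw [← hj]
    exact (Nat.dvd_gcd (Nat.dvd_mul_right N v) hN).trans (by rw [Nat.gcd_mul_right])
  have hjN : p ^ j ∣ N := hj ▸ Nat.gcd_dvd_left N _
  have hjk : j ≤ k := by
    by_contra h
    exact hD (Nat.dvd_antisymm (Nat.gcd_dvd_right _ _)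
      (Nat.dvd_gcd ((Nat.pow_dvd_pow p (le_of_not_ge h)).trans hjN) dvd_rfl))
  exact h1.trans (Nat.mul_dvd_mul_right (Nat.dvd_gcd hjN (Nat.pow_dvd_pow p hjk)) v)

/-- `D m ≤ 12 g + (q-4) e` for a common divisor `D`. -/
theorem dm_le {D q m g e : ℤ} (hq : q = 4 * m + 1) (hm : 1 ≤ m) (hg : 0 < g)
    (he : 0 < e) (hDq : D ∣ q) (h3 : D ∣ 3 * g - e) (h4 : m ∣ 4 * g - e) :
    D * m ≤ 12 * g + (q - 4) * e := by
  obtain ⟨i, hi⟩ := h4
  obtain ⟨u, hu⟩ := h3
  obtain ⟨w, hw⟩ := hDq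
  have hd : D ∣ 3 * i + 4 * e := by
    refine ⟨3 * w * i - 16 * u, ?_⟩
    subst hq
    linear_combination 12 * hi - 16 * hu + 3 * i * hw
  have hpos : 0 < (3 * i + 4 * e) * m := by
    rw [show (3 * i + 4 * e) * m = 12 * g + (4 * m - 3) * e by linear_combination -3 * hi]
    nlinarith [mul_nonneg (show 0 ≤ 4 * m - 3 by linarith) he.le]
  have hle := Int.le_of_dvd (pos_of_mul_pos_left hpos (by linarith)) hd
  calc D * m ≤ (3 * i + 4 * e) * m := mul_le_mul_of_nonneg_right hle (by linarith)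
    _ = 12 * g + (q - 4) * e := by rw [hq]; linear_combination -3 * hi

/-- Consequences of the divisibility structure: with `g = gcd(K, C)`, `K = g x`, `C = g w`,
`v = x - w`, `T = 4n(n+1) = x e`, `D = gcd(K - 1, q)`. -/
theorem plus_gcd {p k : ℕ} (hp : p.Prime) {q n m b K C : ℤ} (hqp : (p : ℤ) ^ k = q)
    (hq : q = 4 * m + 1) (hn : n = 2 * m + 1) (hm : 3 ≤ m) (hmo : Odd m) (hK : 0 < K)
    (hKm : 8 * m ∣ K - 2) (hC : C = K - n * b) (hC0 : C ≠ 0) (hb : 0 < b)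
    (hE : C * (b * K - 4 * n * (n + 1) * (K - 1)) = n * K * (K - 1))
    (hA : K - 1 ∣ 2 * q ^ 3 * (q - 1) * (n * b)) :
    ∃ g e D : ℤ, 0 < g ∧ 0 < e ∧ e * K = g * (4 * n * (n + 1)) ∧
      g ^ 2 * (K - 1) ≤ |C| * (n * b) ∧
      D * m * K ≤ g * (12 * K + (q - 4) * (4 * n * (n + 1))) ∧
      (D = q ∨ g * (K - 1) ≤ D * (n * b)) := by
  have hn7 : 7 ≤ n := by linarith
  have hK2 : 2 ≤ K := by
    obtain ⟨c, hc⟩ := hKm
    by_contra h
    have : K = 1 := by omega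
    subst this
    have : (2 : ℤ) ∣ 1 := ⟨-(4 * m * c), by linarith⟩
    omega
  obtain ⟨x, w, hco, hx, hw⟩ := Int.exists_gcd_one
    (Int.gcd_pos_of_ne_zero_left C hK.ne' : 0 < Int.gcd K C)
  obtain ⟨g, hg⟩ : ∃ g : ℤ, g = (Int.gcd K C : ℤ) := ⟨_, rfl⟩
  rw [← hg] at hx hw
  have hg0 : 0 < g := by
    rw [hg]; exact_mod_cast Int.gcd_pos_of_ne_zero_left C hK.ne'
  have hx0 : 0 < x := pos_of_mul_pos_left (hx ▸ hK) hg0.le
  have hgv : g * (x - w) = n * b := by linear_combination -hC - hx + hw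
  have hnb : 0 < n * b := by positivity
  have hv0 : 0 < x - w := pos_of_mul_pos_right (hgv ▸ hnb) hg0.le
  have hw0 : w ≠ 0 := by rintro rfl; exact hC0 (by rw [hw, zero_mul])
  have hE1 : g * b * x * w = (K - 1) * (n * (x + 4 * (n + 1) * w)) := by
    refine mul_left_cancel₀ hg0.ne' ?_
    rw [hw] at hE
    linear_combination hE + (-(w * g * b) + n * (K - 1)) * hx
  have hcop : IsCoprime x w := Int.isCoprime_iff_gcd_eq_one.2 hco
  have hxK : IsCoprime (K - 1) x := ⟨-1, g, by rw [hx]; ring⟩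
  have hgK : IsCoprime (K - 1) g := ⟨-1, x, by rw [hx]; ring⟩
  obtain ⟨e, he⟩ : x ∣ 4 * n * (n + 1) := by
    refine hcop.dvd_of_dvd_mul_right (hxK.symm.dvd_of_dvd_mul_right ?_)
    exact ⟨g * b * w - (K - 1) * n, by linear_combination -hE1⟩
  have he0 : 0 < e := pos_of_mul_pos_right (he ▸ (by positivity)) hx0.le
  have heK : e * K = g * (4 * n * (n + 1)) := by rw [he, hx]; ring
  have hdwv : K - 1 ∣ w * (x - w) := by
    refine ((hgK.pow_right (n := 2)).mul_right hxK).dvd_of_dvd_mul_left ?_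
    exact ⟨n ^ 2 * (x + 4 * (n + 1) * w), by linear_combination g * x * w * hgv + n * hE1⟩
  have hsize : g ^ 2 * (K - 1) ≤ |C| * (n * b) := by
    have hwv : K - 1 ≤ |w * (x - w)| := Int.le_of_dvd (abs_pos.2 (mul_ne_zero hw0 hv0.ne'))
      ((dvd_abs _ _).2 hdwv)
    rw [abs_mul, abs_of_pos hv0] at hwv
    rw [hw, abs_mul, abs_of_pos hg0, ← hgv]
    nlinarith [mul_le_mul_of_nonneg_left hwv (sq_nonneg g)]
  have hgem : m ∣ 4 * g - e := by
    have h8 : m ∣ 2 * (4 * g - e) := by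
      obtain ⟨c, hc⟩ := hKm
      refine ⟨8 * e * c - g * (16 * m + 24), ?_⟩
      subst hn
      linear_combination e * hc - heK
    obtain ⟨r, hr⟩ := hmo
    exact (show IsCoprime m 2 from ⟨1, -r, by rw [hr]; ring⟩).dvd_of_dvd_mul_left h8
  -- `D = gcd(K - 1, q)`
  obtain ⟨N, hN⟩ : ∃ N : ℕ, (N : ℤ) = K - 1 := ⟨(K - 1).toNat, by omega⟩
  obtain ⟨D, hD⟩ : ∃ D : ℤ, D = (Nat.gcd N (p ^ k) : ℤ) := ⟨_, rfl⟩
  have hD0 : 0 < D := by
    rw [hD]; exact_mod_cast Nat.gcd_pos_of_pos_right _ (pow_pos hp.pos k)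
  have hDN : D ∣ K - 1 := by rw [hD, ← hN]; exact_mod_cast Nat.gcd_dvd_left N (p ^ k)
  have hDq : D ∣ q := by rw [hD, ← hqp]; exact_mod_cast Nat.gcd_dvd_right N (p ^ k)
  have hD3 : D ∣ 3 * g - e := by
    obtain ⟨c, hc⟩ := hDN
    obtain ⟨c', hc'⟩ := hDq
    refine ⟨e * c - g * c' * (4 * m + 5), ?_⟩
    subst hn
    linear_combination -heK + e * hc - g * (4 * m + 5) * hc' + g * (4 * m + 5) * hq
  refine ⟨g, e, D, hg0, he0, heK, hsize, ?_, ?_⟩
  · have h := mul_le_mul_of_nonneg_right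
      (dm_le hq (by linarith) hg0 he0 hDq hD3 hgem) hK.le
    linear_combination h + (q - 4) * heK
  · by_cases hc : D = q
    · exact Or.inl hc
    right
    have hdiv : K - 1 ∣ q ^ 3 * (x - w) := by
      obtain ⟨c, hc⟩ := hKm
      have hodd : IsCoprime (K - 1) 2 := ⟨1, -(4 * m * c), by linear_combination hc⟩
      have hmc : IsCoprime (K - 1) m := ⟨1, -(8 * c), by linear_combination hc⟩
      have hA' : K - 1 ∣ q ^ 3 * (x - w) * (2 * 2 * 2 * m * g) := by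
        refine hA.trans (dvd_of_eq ?_)
        rw [← hgv, hq]
        ring
      exact ((((hodd.mul_right hodd).mul_right hodd).mul_right hmc).mul_right hgK).dvd_of_dvd_mul_right hA'
    obtain ⟨v, hv⟩ : ∃ v : ℕ, (v : ℤ) = x - w := ⟨(x - w).toNat, by omega⟩
    rw [← hN, ← hv, ← hqp] at hdiv
    have h1 : N ∣ p ^ (3 * k) * v := by
      have : (N : ℤ) ∣ ((p ^ k) ^ 3 * v : ℕ) := by push_cast; exact hdiv
      rw [pow_mul']
      exact Int.natCast_dvd_natCast.1 this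
    have h2 : Nat.gcd N (p ^ k) ≠ p ^ k := by
      intro h
      rw [h] at hD
      exact hc (by rw [hD, ← hqp]; push_cast; ring)
    have h3 : (N : ℤ) ≤ D * (x - w) := by
      have := Nat.le_of_dvd (Nat.mul_pos (Nat.gcd_pos_of_pos_right _ (pow_pos hp.pos k)) (by omega))
        (dvd_gcd_mul hp h1 h2)
      rw [hD, ← hv]
      exact_mod_cast this
    rw [← hgv, ← hN]
    linear_combination g * h3

end Cfsg.Agent.H22.Ward
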