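import Mathlib.Algebra.Order.Ring.Abs
import Mathlib.Tactic.Linarith
import Mathlib.Tactic.Ring
import Mathlib.Tactic.LinearCombination

/-!
# Ward, pair case for `q ≡ 5 (mod 8)`: the large cases
-/

set_option autoImplicit false

namespace Cfsg.Agent.H22.Ward

/-- `gcd(K - 1, q) = q` for large fields. -/
theorem plus_gcd_eq {q m n b K g D : ℤ} (hn : 195 ≤ n) (hq : q = 4 * m + 1) (hnm : n = 2 * m + 1)
    (hb : 13 * n ^ 2 ≤ 20 * b) (hK : 3 * (n * b) ≤ 5 * (K - 1)) (hg : 0 < g)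
    (hDm : D * m * K ≤ g * (12 * K + (q - 4) * (4 * n * (n + 1))))
    (hD : D = q ∨ g * (K - 1) ≤ D * (n * b)) : D = q := by
  refine hD.resolve_right fun h => ?_
  have hb0 : 0 < b := by nlinarith
  have hnb : 0 < n * b := by positivity
  have hm : 97 ≤ m := by omega
  have hK0 : 0 < K := by linarith
  have hT : (q - 4) * (4 * n * (n + 1)) ≤ 8 * n ^ 3 := by
    subst hq
    nlinarith [sq_nonneg n]
  have h1 : (K - 1) * (m * K) ≤ n * b * (12 * K + 8 * n ^ 3) := by
    refine le_of_mul_le_mul_left ?_ hg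
    calc g * ((K - 1) * (m * K)) = g * (K - 1) * (m * K) := by ring
      _ ≤ D * (n * b) * (m * K) := mul_le_mul_of_nonneg_right h (by positivity)
      _ = n * b * (D * m * K) := by ring
      _ ≤ n * b * (g * (12 * K + (q - 4) * (4 * n * (n + 1)))) :=
          mul_le_mul_of_nonneg_left hDm hnb.le
      _ ≤ n * b * (g * (12 * K + 8 * n ^ 3)) := by
          refine mul_le_mul_of_nonneg_left (mul_le_mul_of_nonneg_left ?_ hg.le) hnb.le
          linarith
      _ = _ := by ring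
  have h2 : 3 * (m * K) ≤ 5 * (12 * K + 8 * n ^ 3) := by
    refine le_of_mul_le_mul_left ?_ hnb
    linarith [mul_le_mul_of_nonneg_right hK (show 0 ≤ m * K by positivity)]
  have h3 : 39 * n ^ 3 ≤ 100 * K := by
    nlinarith [mul_le_mul_of_nonneg_left hb (show 0 ≤ n by linarith)]
  nlinarith [mul_le_mul_of_nonneg_right (show 231 ≤ 3 * m - 60 by linarith) hK0.le,
    pow_pos (show 0 < n by linarith) 3]

/-- Squares the basic estimate. -/
theorem key_sq {q m n g K Z c : ℤ} (hn : 3 ≤ n) (hq : q = 2 * n - 1) (hnm : n = 2 * m + 1)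
    (hK : 0 < K) (hg : 0 < g) (hqm : q * m * K ≤ g * (12 * K + Z)) (hZ : Z ≤ (c - 12) * K) :
    n ^ 2 * (n - 2) ^ 2 ≤ c ^ 2 * g ^ 2 := by
  have h1 : q * m ≤ c * g := by
    refine le_of_mul_le_mul_right ?_ hK
    linarith [mul_le_mul_of_nonneg_left hZ hg.le]
  have h2 : n * (n - 2) ≤ q * m := by
    subst hq
    nlinarith
  have h3 := pow_le_pow_left₀ (show 0 ≤ n * (n - 2) by nlinarith) (h2.trans h1) 2
  linarith

/-- `η > 0`. -/
theorem plus_pos_large {q m n b η K g Z : ℤ} (hn : 195 ≤ n) (hq : q = 2 * n - 1)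
    (hnm : n = 2 * m + 1) (hη : η = b - 4 * n * (n + 1))
    (hj : 6 * n - 11 ≤ η ∨ (811 ≤ n ∧ 2 * n - 7 ≤ η))
    (hKn : n * b < K) (hC : (η - n) * (K - n * b) ≤ n ^ 2 * b) (hg : 0 < g)
    (hqm : q * m * K ≤ g * (12 * K + Z)) (hZ : Z ≤ 8 * n ^ 3)
    (hsize : g ^ 2 * (K - 1) ≤ (K - n * b) * (n * b)) : False := by
  have hη0 : n < η := by rcases hj with h | ⟨-, h⟩ <;> linarith
  have hb4 : 4 * n ^ 2 ≤ b := by rw [hη] at hη0; nlinarith
  have hnb : 0 < n * b := by nlinarith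
  have hK8 : 4 * n ^ 3 ≤ K := by nlinarith [mul_le_mul_of_nonneg_left hb4 (show 0 ≤ n by linarith)]
  have hg2 : g ^ 2 ≤ K - n * b := by
    refine le_of_mul_le_mul_right ?_ hnb
    linarith [mul_le_mul_of_nonneg_left (show n * b ≤ K - 1 by omega) (sq_nonneg g)]
  have hsq := key_sq (c := 14) (by linarith) hq hnm (by linarith) hg hqm (by linarith)
  have h1 : (n - 2) ^ 2 * (η - n) ≤ 196 * (η + 4 * n * (n + 1)) := by
    refine le_of_mul_le_mul_left ?_ (show 0 < n ^ 2 by positivity)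
    have h2 : (η - n) * (n ^ 2 * (n - 2) ^ 2) ≤ (η - n) * (14 ^ 2 * (K - n * b)) :=
      mul_le_mul_of_nonneg_left (hsq.trans (by linarith)) (by linarith)
    have hb' : b = η + 4 * n * (n + 1) := by linarith
    rw [← hb']
    linarith
  rcases hj with h | ⟨hn', h⟩
  · nlinarith [mul_nonneg (show 0 ≤ (n - 2) ^ 2 - 196 by nlinarith) (show 0 ≤ η - (6 * n - 11) by linarith),
      mul_le_mul_of_nonneg_right hn (show 0 ≤ n ^ 2 by positivity)]
  · nlinarith [mul_nonneg (show 0 ≤ (n - 2) ^ 2 - 196 by nlinarith) (show 0 ≤ η - (2 * n - 7) by linarith),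
      mul_le_mul_of_nonneg_right hn' (show 0 ≤ n ^ 2 by positivity)]

/-- `η < 0`. -/
theorem plus_neg_large {q m n b η K g Z : ℤ} (hn : 195 ≤ n) (hq : q = 2 * n - 1)
    (hnm : n = 2 * m + 1) (hη : η = b - 4 * n * (n + 1))
    (hb : 13 * n ^ 2 ≤ 20 * b)
    (hj : η ≤ -(6 * n - 1) ∨ (811 ≤ n ∧ η ≤ -(2 * n + 3)))
    (hKn : K < n * b) (hC : (-η + n) * (n * b - K) ≤ n ^ 2 * b + 20 * n * (n + 1))
    (hK : n * b * (-η - 3) ≤ (-η + n) * (K - 1)) (hg : 0 < g)
    (hqm : q * m * K ≤ g * (12 * K + Z)) (hZ : Z ≤ 8 * n ^ 3)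
    (hsize : g ^ 2 * (K - 1) ≤ (n * b - K) * (n * b)) : False := by
  have ha0 : 2 * n + 3 ≤ -η := by rcases hj with h | ⟨-, h⟩ <;> linarith
  have hb0 : 0 < b := by nlinarith
  have hnb : 0 < n * b := by positivity
  have han : 0 < -η + n := by linarith
  have hg2 : g ^ 2 * (-η - 3) ≤ n ^ 2 * b + 20 * n * (n + 1) := by
    refine le_of_mul_le_mul_left ?_ hnb
    calc n * b * (g ^ 2 * (-η - 3)) = g ^ 2 * (n * b * (-η - 3)) := by ring
      _ ≤ g ^ 2 * ((-η + n) * (K - 1)) := mul_le_mul_of_nonneg_left hK (sq_nonneg g)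
      _ = (-η + n) * (g ^ 2 * (K - 1)) := by ring
      _ ≤ (-η + n) * ((n * b - K) * (n * b)) := mul_le_mul_of_nonneg_left hsize han.le
      _ = (-η + n) * (n * b - K) * (n * b) := by ring
      _ ≤ (n ^ 2 * b + 20 * n * (n + 1)) * (n * b) := mul_le_mul_of_nonneg_right hC hnb.le
      _ = _ := by ring
  -- `num (-η + n) ≤ den (-η - 3)` gives `num n b ≤ den K`
  have hKfrac : ∀ u d : ℤ, 0 ≤ d → u * (-η + n) ≤ d * (-η - 3) → u * (n * b) ≤ d * (K - 1) := by
    intro u d hd h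
    refine le_of_mul_le_mul_left ?_ han
    nlinarith [mul_le_mul_of_nonneg_left h hnb.le, mul_le_mul_of_nonneg_left hK hd]
  rcases le_total (5 * n ^ 2) (2 * b) with hbig | hsmall
  · rcases hj with h | ⟨hn', h⟩
    · have hK2 := hKfrac 4 5 (by norm_num) (by linarith)
      have hsq := key_sq (c := 16) (Z := Z) (by linarith) hq hnm
        (by linarith) hg hqm
        (by nlinarith [mul_le_mul_of_nonneg_left hbig (show 0 ≤ n by linarith)])
      nlinarith [mul_le_mul_of_nonneg_right hsq (show 0 ≤ -η - 3 by linarith),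
        mul_le_mul_of_nonneg_left h (show 0 ≤ n ^ 2 * ((n - 2) ^ 2) + 256 * n ^ 2 by positivity),
        mul_le_mul_of_nonneg_right hn (show 0 ≤ n ^ 4 by positivity)]
    · have hK2 := hKfrac 33 50 (by norm_num) (by linarith)
      have hsq := key_sq (c := 17) (Z := Z) (by linarith) hq hnm
        (by linarith) hg hqm
        (by nlinarith [mul_le_mul_of_nonneg_left hbig (show 0 ≤ n by linarith)])
      nlinarith [mul_le_mul_of_nonneg_right hsq (show 0 ≤ -η - 3 by linarith),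
        mul_le_mul_of_nonneg_left h (show 0 ≤ n ^ 2 * ((n - 2) ^ 2) + 289 * n ^ 2 by positivity),
        mul_le_mul_of_nonneg_right hn' (show 0 ≤ n ^ 4 by positivity)]
  · have ha : 3 * n ^ 2 ≤ 2 * -η := by rw [hη]; nlinarith
    have hK2 := hKfrac 98 100 (by norm_num) (by nlinarith)
    have hsq := key_sq (c := 25) (Z := Z) (by linarith) hq hnm
      (by linarith) hg hqm
      (by nlinarith [mul_le_mul_of_nonneg_left hb (show 0 ≤ n by linarith)])
    have hg3 : g ^ 2 ≤ 2 * n ^ 2 := by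
      refine le_of_mul_le_mul_right ?_ (show 0 < -η - 3 by linarith)
      refine hg2.trans ?_
      nlinarith [mul_le_mul_of_nonneg_left hsmall (sq_nonneg n),
        mul_le_mul_of_nonneg_left ha (sq_nonneg n),
        mul_le_mul_of_nonneg_right hn (show 0 ≤ n ^ 3 by positivity)]
    nlinarith [pow_le_pow_left₀ (show (0:ℤ) ≤ 193 by norm_num) (show 193 ≤ n - 2 by linarith) 2]

end Cfsg.Agent.H22.Ward
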