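import Cfsg.Agent.H22.Ward.PlusCheckA
import Cfsg.Agent.H22.Ward.PlusCheckB
import Cfsg.Agent.H22.Ward.PlusBounds
import Cfsg.Agent.H22.Ward.PlusGcd
import Cfsg.Agent.H22.Ward.PlusLarge

/-!
# Ward: the pair case is impossible for `q ≡ 5 (mod 8)` (pure arithmetic)

Hypotheses: `q = p ^ k`, `θ = -(q+1)/2` (the signed parameter is `Q = -q`), `m = (q-1)/4` odd and
at least 7, the signed degrees `A, B, C` with `1 + A = B + C`, the order formula, the eliminated
block relation, congruences, two divisibilities and a lower bound for the group order.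
-/

set_option autoImplicit false

namespace Cfsg.Agent.H22.Ward

/-- The finite cases. -/
theorem plus_small {m n b η j K : ℤ} (hmo : Odd m) (hm : 7 ≤ m) (hn : n = 2 * m + 1)
    (hη : η = b - 4 * n * (n + 1)) (hj : η + 5 = m * j) (hj8 : 8 ∣ j - 4) (hb : 0 < b)
    (hup : b ≤ 8 * n ^ 2) (hlow : 16 * (m - 1) * m * n ≤ 3 * (4 * m + 1) * b)
    (hquad : (η - n) * K ^ 2 + (4 * n * (n + 1) + n - n * b * η) * K
      - n * b * (4 * n * (n + 1)) = 0)
    (hmj : m ≤ 95 ∨ (m ≤ 403 ∧ (j = 4 ∨ j = -4))) : False := by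
  subst hn
  rw [show 2 * m + 1 + 1 = 2 * m + 2 by ring] at hη hquad
  refine not_root_of_plusOk ?_ hη hj hlow hquad
  obtain ⟨r, hr⟩ := hmo
  by_cases hm95 : m ≤ 95
  · obtain ⟨c, hc⟩ := hj8
    have hc1 : c ≤ 2 * m + 1 := by
      by_contra h
      nlinarith [mul_le_mul_of_nonneg_left (show 8 * (2 * m + 2) + 4 ≤ j by linarith)
        (show 0 ≤ m by linarith)]
    have hc2 : -(2 * m + 6) ≤ c := by
      by_contra h
      nlinarith [mul_le_mul_of_nonneg_left (show j ≤ 4 - 8 * (2 * m + 7) by linarith)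
        (show 0 ≤ m by linarith)]
    by_cases hm67 : m ≤ 67
    · have h := plus_small_a (r - 3).toNat (by omega) (c + (2 * m + 6)).toNat (by omega)
      have e1 : 2 * ((r - 3).toNat : ℤ) + 7 = m := by omega
      rw [e1, Int.toNat_of_nonneg (by omega)] at h
      rw [← h]
      congr 1
      linarith
    · have h := plus_small_b (r - 34).toNat (by omega) (c + (2 * m + 6)).toNat (by omega)
      have e1 : 2 * ((r - 34).toNat : ℤ) + 69 = m := by omega
      rw [e1, Int.toNat_of_nonneg (by omega)] at h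
      rw [← h]
      congr 1
      linarith
  · obtain ⟨hm403, hj4⟩ := hmj.resolve_left hm95
    have h := plus_mid (r - 48).toNat (by omega)
    have e1 : 2 * ((r - 48).toNat : ℤ) + 97 = m := by omega
    rw [e1] at h
    rcases hj4 with rfl | rfl
    · exact h.1
    · exact h.2

/-- The large cases. -/
theorem plus_big {q m n b η j K g D : ℤ} (hm97 : 97 ≤ m) (hm : q = 4 * m + 1)
    (hn : n = 2 * m + 1) (hη : η = b - 4 * n * (n + 1)) (hj : η + 5 = m * j) (hb0 : 0 < b)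
    (hblow : 16 * (m - 1) * m * n ≤ 3 * (4 * m + 1) * b)
    (hcases : (j = 4 ∧ 811 ≤ n) ∨ (j = -4 ∧ 811 ≤ n) ∨ 12 ≤ j ∨ j ≤ -12)
    (hP : 0 < η → n * b < K ∧ (η - n) * (K - n * b) ≤ n ^ 2 * b)
    (hN : η < 0 → K < n * b ∧ (-η + n) * (n * b - K) ≤ n ^ 2 * b + 20 * n * (n + 1) ∧
      n * b * (-η) - 20 * n * (n + 1) ≤ (-η + n) * K)
    (hg : 0 < g) (hsize : g ^ 2 * (K - 1) ≤ |K - n * b| * (n * b))
    (hDm : D * m * K ≤ g * (12 * K + (q - 4) * (4 * n * (n + 1))))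
    (hD : D = q ∨ g * (K - 1) ≤ D * (n * b)) : False := by
  have hm0 : 0 ≤ m := by linarith
  have hnb : 0 < n * b := mul_pos (by linarith) hb0
  have hη2 : 2 * n - 7 ≤ η ∨ η ≤ -2 * n - 3 := by
    have : 4 ≤ j ∨ j ≤ -4 := by omega
    rcases this with h | h
    · left; linarith [mul_le_mul_of_nonneg_left h hm0]
    · right; linarith [mul_le_mul_of_nonneg_left h hm0]
  have hn195 : 195 ≤ n := by linarith
  have hb13 : 13 * n ^ 2 ≤ 20 * b := by
    refine le_of_mul_le_mul_left ?_ (show 0 < 3 * (4 * m + 1) by linarith)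
    subst hn
    nlinarith [mul_le_mul_of_nonneg_left hm97 (sq_nonneg m)]
  have hq2 : q = 2 * n - 1 := by rw [hm, hn]; ring
  have hT : (q - 4) * (4 * n * (n + 1)) ≤ 8 * n ^ 3 := by
    rw [hq2]
    nlinarith [sq_nonneg n]
  rcases hη2 with hp' | hn'
  · have hη0 : 0 < η := by linarith
    obtain ⟨hKn, hCb⟩ := hP hη0
    obtain rfl : D = q := plus_gcd_eq hn195 hm hn hb13 (by omega) hg hDm hD
    rw [abs_of_pos (by linarith)] at hsize
    refine plus_pos_large hn195 hq2 hn hη ?_ hKn hCb hg hDm hT hsize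
    rcases hcases with ⟨-, h⟩ | ⟨-, h⟩ | h | h
    · exact Or.inr ⟨h, hp'⟩
    · exact Or.inr ⟨h, hp'⟩
    · left; linarith [mul_le_mul_of_nonneg_left h hm0]
    · exfalso; linarith [mul_le_mul_of_nonneg_left h hm0]
  · have hη0 : η < 0 := by linarith
    obtain ⟨hKn, hCb, hKlo⟩ := hN hη0
    have hK3 : n * b * (-η - 3) ≤ (-η + n) * (K - 1) := by
      have h1 : 20 * n * (n + 1) + (-η + n) ≤ 3 * (n * b) := by
        have : -η ≤ 4 * n * (n + 1) := by linarith
        nlinarith [mul_le_mul_of_nonneg_left hb13 (show 0 ≤ n by linarith),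
          mul_le_mul_of_nonneg_right hn195 (sq_nonneg n)]
      linarith
    have hK5 : 3 * (n * b) ≤ 5 * (K - 1) := by
      refine le_of_mul_le_mul_left ?_ (show 0 < -η + n by linarith)
      linarith [mul_le_mul_of_nonneg_left (show 3 * (-η + n) ≤ 5 * (-η - 3) by linarith) hnb.le]
    obtain rfl : D = q := plus_gcd_eq hn195 hm hn hb13 hK5 hg hDm hD
    rw [abs_of_neg (by linarith), neg_sub] at hsize
    refine plus_neg_large hn195 hq2 hn hη hb13 ?_ hKn hCb hK3 hg hDm hT hsize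
    rcases hcases with ⟨-, h⟩ | ⟨-, h⟩ | h | h
    · exact Or.inr ⟨h, by linarith⟩
    · exact Or.inr ⟨h, by linarith⟩
    · exfalso; linarith [mul_le_mul_of_nonneg_left h hm0]
    · left; linarith [mul_le_mul_of_nonneg_left h hm0]

/-- The pair case is impossible. -/
theorem no_pair_plus (p k : ℕ) (hp : p.Prime) (q θ m A B C G : ℤ) (hq : (p : ℤ) ^ k = q)
    (hm : q = 4 * m + 1) (hmo : Odd m) (hm7 : 7 ≤ m) (hθ : θ = -(2 * m + 1))
    (hsum : 1 + A = B + C) (hA1 : A ≠ 1)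
    (hG : G = 2 * q ^ 3 * (q - 1) * B) (hGpos : 0 < G)
    (hE : B * C * (1 + A) - θ ^ 2 * A * (1 + A) + 4 * θ ^ 2 * (θ - 1) * A * C = 0)
    (hA8 : 8 ∣ A - 1) (hAm : m ∣ A - 1) (hCm : m ∣ C + 1) (hB8 : 8 ∣ B - θ)
    (hdA : A ∣ G) (hdθ : θ ∣ G)
    (hlow : 2 * (m - 1) * (q * (q ^ 2 - 1)) ^ 2 ≤ 3 * G) : False := by
  obtain ⟨n, hn⟩ : ∃ n, n = 2 * m + 1 := ⟨_, rfl⟩
  rw [← hn] at hθ
  subst hθ
  have hn15 : 15 ≤ n := by linarith
  obtain ⟨b, rfl⟩ : ∃ b, B = n * b := by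
    have h2 : IsCoprime n 2 := ⟨1, -m, by rw [hn]; ring⟩
    have hnq : IsCoprime n q := ⟨2, -1, by rw [hn, hm]; ring⟩
    have hq1 : IsCoprime n (q - 1) := by
      have : q - 1 = 2 * (n - 1) := by rw [hn, hm]; ring
      rw [this]
      exact h2.mul_right ⟨1, -1, by ring⟩
    rw [hG, neg_dvd] at hdθ
    exact ((h2.mul_right hnq.pow_right).mul_right hq1).dvd_of_dvd_mul_left hdθ
  have hq0 : 0 < q := by linarith
  have hnb : 0 < n * b := by
    rw [hG] at hGpos
    exact pos_of_mul_pos_right hGpos (mul_nonneg (by positivity) (by linarith))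
  have hb0 : 0 < b := pos_of_mul_pos_right hnb (by linarith)
  obtain ⟨K, hKA⟩ : ∃ K, A = K - 1 := ⟨A + 1, by ring⟩
  subst hKA
  have hC : C = K - n * b := by linarith
  have hEs : C * (b * K - 4 * n * (n + 1) * (K - 1)) = n * K * (K - 1) := by
    refine mul_left_cancel₀ (show n ≠ 0 by linarith) ?_
    linear_combination hE
  obtain ⟨η, hη⟩ : ∃ η, η = b - 4 * n * (n + 1) := ⟨_, rfl⟩
  have hquad : (η - n) * K ^ 2 + (4 * n * (n + 1) + n - n * b * η) * K
      - n * b * (4 * n * (n + 1)) = 0 := by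
    rw [hC] at hEs
    rw [hη]
    linear_combination hEs
  have hblow : 16 * (m - 1) * m * n ≤ 3 * (4 * m + 1) * b := by
    refine le_of_mul_le_mul_left ?_
      (show 0 < 8 * q ^ 2 * m * n from mul_pos (mul_pos (by positivity) (by linarith)) (by linarith))
    rw [hG, hm] at hlow
    rw [hm]
    subst hn
    linear_combination hlow
  -- congruences
  have hb8 : 8 ∣ b + 1 := by
    have h1 : IsCoprime (8 : ℤ) n := by
      have h2 : IsCoprime (2 : ℤ) n := ⟨-m, 1, by rw [hn]; ring⟩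
      have := h2.pow_left (m := 3)
      norm_num at this
      exact this
    refine h1.dvd_of_dvd_mul_left ?_
    obtain ⟨c, hc⟩ := hB8
    exact ⟨c, by linear_combination hc⟩
  have hbm : m ∣ b - 3 := by
    obtain ⟨c1, hc1⟩ := hAm
    obtain ⟨c2, hc2⟩ := hCm
    exact ⟨c1 - c2 - 2 * b, by subst hn; linear_combination hc1 - hc2 - hsum⟩
  obtain ⟨j, hj⟩ : m ∣ η + 5 := by
    obtain ⟨c, hc⟩ := hbm
    refine ⟨c - (16 * m + 24), ?_⟩
    subst hn
    linear_combination hη + hc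
  obtain ⟨r, hr⟩ := hmo
  have h8m : IsCoprime (8 : ℤ) m := by
    have h2 : IsCoprime (2 : ℤ) m := ⟨-r, 1, by rw [hr]; ring⟩
    have := h2.pow_left (m := 3)
    norm_num at this
    exact this
  have hj8 : 8 ∣ j - 4 := by
    refine h8m.dvd_of_dvd_mul_left ?_
    obtain ⟨c, hc⟩ := hb8
    refine ⟨c - (2 * m + 1) * (m + 1) - r, ?_⟩
    subst hn
    linear_combination -hj + hη + hc - 4 * hr
  obtain ⟨ej, hej⟩ := hj8
  have hj12 : j = 4 ∨ j = -4 ∨ 12 ≤ j ∨ j ≤ -12 := by omega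
  have hm0 : 0 ≤ m := by linarith
  have hη2 : 2 * n - 7 ≤ η ∨ η ≤ -2 * n - 3 := by
    have : 4 ≤ j ∨ j ≤ -4 := by omega
    rcases this with h | h
    · left; linarith [mul_le_mul_of_nonneg_left h hm0]
    · right; linarith [mul_le_mul_of_nonneg_left h hm0]
  have hKm : 8 * m ∣ K - 2 :=
    h8m.mul_dvd (by rw [show K - 2 = K - 1 - 1 by ring]; exact hA8)
      (by rw [show K - 2 = K - 1 - 1 by ring]; exact hAm)
  have hKbig : 4 * n - 6 ≤ K ∨ K ≤ -(4 * n - 6) := by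
    obtain ⟨c, hc⟩ := hKm
    have hc0 : c ≠ 0 := by rintro rfl; exact hA1 (by linarith)
    have h8 : (0 : ℤ) ≤ 8 * m := by linarith
    rcases lt_or_gt_of_ne hc0 with h | h
    · right; linarith [mul_le_mul_of_nonneg_left (show c ≤ -1 by omega) h8]
    · left; linarith [mul_le_mul_of_nonneg_left (show 1 ≤ c by omega) h8]
  have hb2 : n ^ 2 ≤ 2 * b := by
    refine le_of_mul_le_mul_left ?_ (show 0 < 3 * (4 * m + 1) by linarith)
    subst hn
    nlinarith [mul_le_mul_of_nonneg_left hm7 (sq_nonneg m)]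
  obtain ⟨hK0, hKne, hP, hN⟩ := plus_rem hn15 hb2 hη2 hKbig hquad
  obtain ⟨g, e, D, hg, he, heK, hsize, hDm, hD⟩ :=
    plus_gcd hp hq hm hn (by linarith) ⟨r, hr⟩ hK0 hKm hC (by rw [hC]; exact sub_ne_zero.2 hKne) hb0
      hEs (by rw [← hG]; exact hdA)
  rw [hC] at hsize
  have hup := plus_b_le hn15 hη he heK hP hsize
  by_cases hmj : m ≤ 95 ∨ (m ≤ 403 ∧ (j = 4 ∨ j = -4))
  · exact plus_small ⟨r, hr⟩ hm7 hn hη hj ⟨ej, hej⟩ hb0 hup hblow hquad hmj
  rw [not_or, not_le] at hmj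
  obtain ⟨hm95, hmj⟩ := hmj
  have hm97 : 97 ≤ m := by omega
  have hcases : (j = 4 ∧ 811 ≤ n) ∨ (j = -4 ∧ 811 ≤ n) ∨ 12 ≤ j ∨ j ≤ -12 := by
    rcases hj12 with h | h | h | h
    · exact Or.inl ⟨h, by omega⟩
    · exact Or.inr (Or.inl ⟨h, by omega⟩)
    · exact Or.inr (Or.inr (Or.inl h))
    · exact Or.inr (Or.inr (Or.inr h))
  exact plus_big hm97 hm hn hη hj hb0 hblow hcases hP hN hg hsize hDm hD

end Cfsg.Agent.H22.Ward
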