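import Cfsg.Agent.H22.Ward.PlusDefs

/-!
# Ward, pair case for `q ≡ 5 (mod 8)`: kernel check, `7 ≤ m ≤ 67`
-/

set_option autoImplicit false

namespace Cfsg.Agent.H22.Ward

theorem plus_small_a : ∀ r < 31, ∀ i < 4 * (2 * r + 7) + 12,
    plusOk (2 * (r : ℕ) + 7) (4 + 8 * ((i : ℕ) - (2 * (2 * (r : ℕ) + 7) + 6))) = true := by
  decide +kernel

end Cfsg.Agent.H22.Ward
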