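import Mathlib.Data.Nat.Sqrt
import Mathlib.Tactic.Ring
import Mathlib.Tactic.LinearCombination

/-!
# Ward, pair case for `q ≡ 5 (mod 8)`: the finite test

`n = (q+1)/2 = 2m+1`, `T = 4n(n+1)`.  A candidate `(m, j)` stands for `η = m j - 5`, `b = η + T`;
the integer `K` satisfies `(η-n)K² + (T+n-nbη)K - nbT = 0`.
-/

set_option autoImplicit false

namespace Cfsg.Agent.H22.Ward

/-- The discriminant of the quadratic in `K`. -/
def plusDisc (m b : ℤ) : ℤ :=
  (4 * (2 * m + 1) * (2 * m + 2) + (2 * m + 1)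
      - (2 * m + 1) * b * (b - 4 * (2 * m + 1) * (2 * m + 2))) ^ 2
    + 4 * (b - 4 * (2 * m + 1) * (2 * m + 2) - (2 * m + 1))
      * ((2 * m + 1) * b * (4 * (2 * m + 1) * (2 * m + 2)))

/-- The candidate `(m, j)` is excluded: `b` is too small or the discriminant is no square. -/
def plusOk (m j : ℤ) : Bool :=
  let b := 4 * (2 * m + 1) * (2 * m + 2) - 5 + m * j
  decide (3 * (4 * m + 1) * b < 16 * (m - 1) * m * (2 * m + 1)) ||
  decide (plusDisc m b < 0) ||
  decide ((plusDisc m b).toNat.sqrt ^ 2 ≠ (plusDisc m b).toNat)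

theorem not_root_of_plusOk {m j b η K : ℤ} (hok : plusOk m j = true)
    (hη : η = b - 4 * (2 * m + 1) * (2 * m + 2)) (hj : η + 5 = m * j)
    (hlow : 16 * (m - 1) * m * (2 * m + 1) ≤ 3 * (4 * m + 1) * b)
    (hq : (η - (2 * m + 1)) * K ^ 2
      + (4 * (2 * m + 1) * (2 * m + 2) + (2 * m + 1) - (2 * m + 1) * b * η) * K
      - (2 * m + 1) * b * (4 * (2 * m + 1) * (2 * m + 2)) = 0) : False := by
  have hb : 4 * (2 * m + 1) * (2 * m + 2) - 5 + m * j = b := by
    rw [← hj, hη]; ring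
  obtain ⟨z, hz⟩ : ∃ z : ℤ, plusDisc m b = z ^ 2 := by
    subst hη
    exact ⟨2 * (b - 4 * (2 * m + 1) * (2 * m + 2) - (2 * m + 1)) * K
      + (4 * (2 * m + 1) * (2 * m + 2) + (2 * m + 1)
        - (2 * m + 1) * b * (b - 4 * (2 * m + 1) * (2 * m + 2))), by
      rw [plusDisc]
      linear_combination -4 * (b - 4 * (2 * m + 1) * (2 * m + 2) - (2 * m + 1)) * hq⟩
  simp only [plusOk, hb, hz, Bool.or_eq_true, decide_eq_true_eq] at hok
  rcases hok with (h | h) | h
  · exact absurd h (not_lt.2 hlow)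
  · exact absurd h (not_lt.2 (sq_nonneg z))
  · apply h
    have : (z ^ 2).toNat = z.natAbs ^ 2 := by
      rw [← Int.natAbs_pow, ← Int.toNat_natCast (z ^ 2).natAbs,
        Int.natAbs_of_nonneg (sq_nonneg z)]
    rw [this, Nat.sqrt_eq']

end Cfsg.Agent.H22.Ward
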